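import Cfsg.Agent.CS4.Defs
import Cfsg.Agent.MX.Cop
import Cfsg.Agent.H42.SylIn

set_option autoImplicit false

namespace Cfsg.Agent.CS4

open Subgroup

universe u

variable {S : Type*} [Group S] [Finite S]

theorem Frat.even_fix {τ : MulAut S} (h : τ * τ = 1) (he : Even (Nat.card S)) : 2 ∣ Nat.card (fix τ) := by
  classical
  haveI := Fintype.ofFinite S
  haveI : Fact (Nat.Prime 2) := ⟨Nat.prime_two⟩
  have h1 := Equiv.Perm.card_fixedPoints_modEq (α := S) (f := (τ : S → S)) (p := 2) (n := 1) (by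
    funext a
    exact DFunLike.congr_fun h a)
  rw [← Nat.card_eq_fintype_card, ← Nat.card_eq_fintype_card] at h1
  exact (h1.dvd_iff dvd_rfl).1 he.two_dvd

/-- notes/CS4.md, section Frat -/
theorem frat_not_star {x : S} {r : ℕ} (hr : r.Prime) (h2 : r ≠ 2) (hx : orderOf x = r)
    (hr2 : ¬ r ^ 2 ∣ Nat.card S) (he : Even (Nat.card S))
    (hw : ∀ w : S, w * w = 1 → w ∈ normalizer (zpowers x : Set S) → w = 1) : ¬ Star S := by
  intro hs
  haveI : Fact (Nat.Prime 2) := ⟨Nat.prime_two⟩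
  haveI := Fact.mk hr
  have x1 : x ≠ 1 := fun e => hr.one_lt.ne (by rw [← hx, e, orderOf_one])
  obtain ⟨τ, -, tt, tx, A, hA⟩ := hs x x1 ⟨r, 1, hr, h2, by rw [hx, pow_one]⟩
  obtain ⟨w0, hw0⟩ := exists_prime_orderOf_dvd_card' 2 (Frat.even_fix tt he)
  have ow : orderOf (w0 : S) = 2 := by rw [orderOf_coe, hw0]
  have xA : x ∈ A := (hA x).2 ⟨tx, hx ▸ hr.odd_of_ne_two h2⟩
  have oA : ¬ 2 ∣ Nat.card A := fun h => by
    obtain ⟨a, ha⟩ := exists_prime_orderOf_dvd_card' 2 h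
    have := ((hA a).1 a.2).2
    rw [orderOf_coe, ha] at this
    exact absurd this (by decide)
  have wn : (w0 : S) ∈ normalizer (A : Set S) := mem_normalizer_fintype fun a ha =>
    (hA _).2 ⟨mul_mem (mul_mem w0.2 ((hA a).1 ha).1) (inv_mem w0.2), by
      rw [show orderOf (w0 * a * (w0 : S)⁻¹) = orderOf a from (MulAut.conj (w0 : S)).orderOf_eq a]
      exact ((hA a).1 ha).2⟩
  have cx : Nat.card (zpowers x) = r := by rw [Nat.card_zpowers, hx]
  obtain ⟨R, -, cR, nR⟩ := MX.cop_grp Nat.prime_two hr (U := zpowers (w0 : S))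
    (IsPGroup.of_card (n := 1) (by rw [Nat.card_zpowers, ow, pow_one])) (zpowers_le.2 wn) oA
  have sy : H42.SylIn r (zpowers x) ⊤ := ⟨le_top, IsPGroup.of_card (n := 1) (by rw [cx, pow_one]), fun h => hr2 (by
    rw [relIndex_top_right] at h
    rw [← (zpowers x).card_mul_index, cx, pow_two]
    exact Nat.mul_dvd_mul_left r h)⟩
  obtain ⟨a, -, ha⟩ := sy.exists_conj (IsPGroup.of_card cR) le_top
  have e : H42.cj a R = zpowers x := eq_of_le_of_card_ge (H42.cj_le_iff.2 ha) (by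
    rw [H42.card_cj, cR, cx]
    refine Nat.le_self_pow (fun h => ?_) r
    exact (hr.factorization_pos_of_dvd Nat.card_pos.ne' (cx ▸ card_dvd_of_le (zpowers_le.2 xA))).ne' h)
  have h3 := hw (a * w0 * a⁻¹) (by rw [conj_mul, ← pow_two, ← ow, pow_orderOf_eq_one, mul_one, mul_inv_cancel]) (by
    rw [← e, ← H42.cj_normalizer]
    exact H42.conj_mem_cj (nR (mem_zpowers _)))
  rw [conj_eq_one_iff] at h3
  rw [h3, orderOf_one] at ow
  omega

end Cfsg.Agent.CS4
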