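import Cfsg.Agent.CS4.Defs
import Cfsg.Agent.CS4.Frat

set_option autoImplicit false

namespace Cfsg.Agent.CS4

open Subgroup

universe u

namespace A7Aux

open Equiv

theorem rot_pow : ∀ k : Fin 7, ∀ i : Fin 7, ((finRotate 7 : Perm (Fin 7)) ^ (k : ℕ)) i = i + k := by decide +kernel

theorem sign_sub : ∀ c : Fin 7, Perm.sign (Equiv.subLeft c : Perm (Fin 7)) = -1 := by decide +kernel

theorem aff : ∀ c k : Fin 7, (∀ i : Fin 7, c + k * (c + k * i) = i) →
    (∀ i : Fin 7, c + k * i = i) ∨ ∀ i : Fin 7, c + k * i = c - i := by decide +kernel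

theorem lin {w : Fin 7 → Fin 7} {k : Fin 7} (h : ∀ i, w (i + 1) = w i + k) (i : Fin 7) : w i = w 0 + k * i := by
  have st : ∀ c k j : Fin 7, c + k * j + k = c + k * (j + 1) := by decide +kernel
  have z : ∀ c k : Fin 7, c = c + k * 0 := by decide +kernel
  have s : ∀ j : Fin 7, w j = w 0 + k * j → w (j + 1) = w 0 + k * (j + 1) := fun j e => by rw [h, e, st]
  have h0 := z (w 0) k
  have h1 := s _ h0
  have h2 := s _ h1
  have h3 := s _ h2
  have h4 := s _ h3
  have h5 := s _ h4
  have h6 := s _ h5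
  fin_cases i
  exacts [h0, h1, h2, h3, h4, h5, h6]

/-- the 7-cycle -/
def x7 : alternatingGroup (Fin 7) := ⟨finRotate 7, Perm.mem_alternatingGroup.2 (by decide +kernel)⟩

theorem ord_x7 : orderOf x7 = 7 :=
  haveI : Fact (Nat.Prime 7) := ⟨by norm_num⟩
  orderOf_eq_prime (Subtype.ext (by decide +kernel : (finRotate 7 : Perm (Fin 7)) ^ 7 = 1))
    fun e => (by decide +kernel : (finRotate 7 : Perm (Fin 7)) ≠ 1) (congrArg Subtype.val e)

theorem card7 : Nat.card (alternatingGroup (Fin 7)) = 2520 := by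
  have := two_mul_nat_card_alternatingGroup (α := Fin 7)
  rw [Nat.card_perm, Nat.card_fin] at this
  have e : Nat.factorial 7 = 5040 := by decide
  omega

end A7Aux

open A7Aux

/-- notes/CS4.md, section A7 -/
theorem a7_not_star : ¬ Star ↥(alternatingGroup (Fin 7)) := by
  refine frat_not_star (x := x7) (r := 7) (by norm_num) (by norm_num) ord_x7 (by rw [card7]; norm_num)
    (by rw [card7]; decide) fun w ww hw => ?_
  have h1 : w * x7 * w⁻¹ ∈ zpowers x7 := (mem_normalizer_iff.1 hw x7).1 (mem_zpowers _)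
  rw [mem_zpowers_iff_mem_range_orderOf, ord_x7, Finset.mem_image] at h1
  obtain ⟨k, hk, e⟩ := h1
  have hk' : k < 7 := Finset.mem_range.1 hk
  have e1 : w * x7 = x7 ^ k * w := by rw [e, inv_mul_cancel_right]
  have e2 : ∀ i, w.1 (i + 1) = w.1 i + ⟨k, hk'⟩ := fun i => by
    have := congrArg (fun g : alternatingGroup (Fin 7) => g.1 i) e1
    rw [← rot_pow ⟨k, hk'⟩, ← finRotate_succ_apply]
    exact this
  have e3 := lin e2
  rcases aff (w.1 0) ⟨k, hk'⟩ (fun i => by
    rw [← e3, ← e3]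
    exact congrArg (fun g : alternatingGroup (Fin 7) => g.1 i) ww) with h | h
  · exact Subtype.ext (Equiv.ext fun i => (e3 i).trans (h i))
  · have e4 : w.1 = Equiv.subLeft (w.1 0) := Equiv.ext fun i => (e3 i).trans (h i)
    have e5 := Equiv.Perm.mem_alternatingGroup.1 w.2
    rw [e4, sign_sub] at e5
    exact absurd e5 (by decide)

end Cfsg.Agent.CS4
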