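import Cfsg.Agent.CS4.Defs
import Cfsg.Agent.H42.SylIn

set_option autoImplicit false

namespace Cfsg.Agent.CS4

open Subgroup

universe u

variable {G : Type u} [Group G] [Finite G]

theorem Base_one {a b c : ℕ} (h1 : a ∣ b) (h2 : a ∣ 2 ^ c) (hb : Odd b) : a = 1 :=
  Nat.eq_one_of_dvd_coprimes ((Nat.coprime_two_right.2 hb).pow_right c) h1 h2

theorem Base_burnside {H : Type*} [Group H] [Finite H] (T : Sylow 2 H)
    (k : ∀ t ∈ (T : Subgroup H), ∀ t' ∈ (T : Subgroup H), t ∉ center H → t' ∉ center H → t⁻¹ * t' ∈ center H) :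
    ∃ A : Subgroup H, ∀ g, g ∈ A ↔ Odd (orderOf g) := by
  have ab : ∀ t ∈ (T : Subgroup H), ∀ t' ∈ (T : Subgroup H), t * t' = t' * t := fun t ht t' ht' => by
    by_cases h1 : t ∈ center H
    · exact (mem_center_iff.1 h1 t').symm
    by_cases h2 : t' ∈ center H
    · exact mem_center_iff.1 h2 t
    have := mem_center_iff.1 (k t ht t' ht' h1 h2) t
    rw [mul_inv_cancel_left] at this
    calc t * t' = t * (t⁻¹ * t' * t) := by rw [← this]
      _ = _ := by group
  have hP : normalizer (T : Set H) ≤ centralizer (T : Set H) := by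
    intro n hn t ht
    by_cases h1 : t ∈ center H
    · exact (mem_center_iff.1 h1 n).symm
    have m : n * t * n⁻¹ ∈ (T : Subgroup H) := (mem_normalizer_iff.1 hn t).1 ht
    have h2 : n * t * n⁻¹ ∉ center H := fun h => h1 (by
      have := mem_center_iff.1 h n⁻¹
      rw [show t = n * t * n⁻¹ from by
        calc t = n⁻¹ * (n * t * n⁻¹) * n := by group
          _ = _ := by rw [this]; group]
      exact h)
    have hz := k t ht _ m h1 h2
    have zT : t⁻¹ * (n * t * n⁻¹) ∈ (T : Subgroup H) := mul_mem (inv_mem ht) m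
    generalize hz' : t⁻¹ * (n * t * n⁻¹) = z at hz zT
    have e1 : n * t = t * z * n := by rw [← hz']; group
    have e2 : ∀ j : ℕ, n ^ j * t = t * z ^ j * n ^ j := fun j => by
      induction j with
      | zero => simp
      | succ j ih =>
        have c : Commute z (n ^ j) := (mem_center_iff.1 hz _).symm
        rw [pow_succ, mul_assoc, e1, ← mul_assoc, ← mul_assoc, ih, pow_succ z, mul_assoc _ (n ^ j) z, ← c.eq]
        group
    obtain ⟨a, b, hb, e⟩ := Nat.exists_eq_two_pow_mul_odd (orderOf_pos n).ne'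
    have p2 : IsPGroup 2 (zpowers (n ^ b)) := IsPGroup.of_card_dvd_pow (n := a) (by
      rw [Nat.card_zpowers]
      exact orderOf_dvd_of_pow_eq_one (by rw [← pow_mul, mul_comm, ← e, pow_orderOf_eq_one]))
    have nb : n ^ b ∈ (T : Subgroup H) :=
      ((p2.inf_normalizer_sylow T).le ⟨mem_zpowers _, pow_mem hn b⟩).2
    have e3 : z ^ b = 1 := by
      have := e2 b
      rw [ab _ nb t ht, mul_left_inj, left_eq_mul] at this
      exact this
    obtain ⟨c, hc⟩ := T.2 ⟨z, zT⟩
    have : z = 1 := by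
      have h1 := orderOf_dvd_of_pow_eq_one e3
      have h2 : orderOf z ∣ 2 ^ c := orderOf_dvd_of_pow_eq_one (congrArg Subtype.val hc)
      exact orderOf_eq_one_iff.1 (Base_one h1 h2 hb)
    rw [e1, this, mul_one]
  have hc := MonoidHom.ker_transferSylow_isComplement' T hP
  refine ⟨(MonoidHom.transferSylow T hP).ker, fun g => ⟨fun hg => ?_, fun hg => ?_⟩⟩
  · have : Odd (Nat.card (MonoidHom.transferSylow T hP).ker) := by
      rw [← hc.index_eq_card]
      exact Nat.not_even_iff_odd.1 fun h => T.not_dvd_index (even_iff_two_dvd.1 h)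
    exact this.of_dvd_nat (by simpa using orderOf_dvd_natCard (⟨g, hg⟩ : (MonoidHom.transferSylow T hP).ker))
  · obtain ⟨c, hc⟩ := T.2 (MonoidHom.transferSylow T hP g)
    exact orderOf_eq_one_iff.1 (Base_one (orderOf_map_dvd _ g)
      (orderOf_dvd_of_pow_eq_one hc) hg)

/-- notes/CS4.md, section Base -/
theorem nil2_cent {V : Subgroup G} (hV : IsPGroup 2 V) (h : ¬ 4 * Nat.card V ∣ Nat.card G) :
    Nil2 (centralizer (V : Set G)) := by
  obtain ⟨T⟩ : Nonempty (Sylow 2 (centralizer (V : Set G))) := inferInstance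
  obtain ⟨A, hA⟩ := Base_burnside T fun t ht t' ht' h1 h2 => by
    by_contra h3
    have k : ∀ s : centralizer (V : Set G), s ∉ center _ → (s : G) ∉ V := fun s hs hv =>
      hs (mem_center_iff.2 fun c => Subtype.ext (c.2 s hv).symm)
    let W := (T : Subgroup _).map (centralizer (V : Set G)).subtype ⊔ V
    have hW : IsPGroup 2 W := (T.2.map _).to_sup_of_normal_right' hV
      ((map_subtype_le _).trans (centralizer_le_normalizer _))
    have m : ∀ s : centralizer (V : Set G), s ∈ (T : Subgroup _) → (s : G) ∈ W := fun s hs => mem_sup_left ⟨s, hs, rfl⟩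
    obtain ⟨j, hj⟩ := hW.index (V.subgroupOf W)
    refine h (Dvd.dvd.trans ?_ (card_subgroup_dvd_card W))
    rw [← H42.card_mul_relIndex (le_sup_right : V ≤ W), mul_comm, relIndex, hj]
    refine Nat.mul_dvd_mul_left _ (pow_dvd_pow 2 (n := j) (m := 2) ?_)
    rcases j with _ | _ | j
    · exact absurd ((index_eq_one.1 hj).ge (mem_top (⟨_, m t ht⟩ : W))) (k t h1)
    · have := (mul_mem_iff_of_index_two (a := (⟨_, m t ht⟩ : W)⁻¹) (b := ⟨_, m t' ht'⟩) hj).2
        (iff_of_false (fun h => k t h1 (inv_mem_iff.1 h)) (k t' h2))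
      exact absurd this (k _ h3)
    · omega
  refine ⟨A.map (centralizer (V : Set G)).subtype, fun g => ⟨?_, fun ⟨h1, h2⟩ => ⟨⟨g, h1⟩, (hA _).2 ?_, rfl⟩⟩⟩
  · rintro ⟨y, hy, rfl⟩
    exact ⟨y.2, by simpa using (hA y).1 hy⟩
  · simpa using h2

/-- notes/CS4.md, section Base -/
theorem not_four_of_sylow {x : G} (h4 : ¬ 4 ∣ (centralizer ({x} : Set G)).index) {V : Subgroup G}
    (hV : IsPGroup 2 V) (hVx : V ≤ centralizer ({x} : Set G))
    (hmax : ∀ W : Subgroup G, IsPGroup 2 W → V ≤ W → W ≤ normalizer (V : Set G) →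
      W ≤ centralizer ({x} : Set G) → W = V) : ¬ 4 * Nat.card V ∣ Nat.card G := by
  obtain ⟨R, hR, hVR⟩ := H42.exists_sylIn hV hVx
  have e : R ≤ V := by
    have := hR.isP.isNilpotent
    have k := Group.normalizerCondition_of_isNilpotent (G := R)
    rw [← subgroupOf_eq_top]
    refine normalizerCondition_iff_only_full_group_self_normalizing.1 k _ (le_antisymm (fun y hy => ?_) le_normalizer)
    refine (hmax (R ⊓ normalizer (V : Set G)) hR.isP.to_inf_left (le_inf hVR le_normalizer) inf_le_right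
      (inf_le_left.trans hR.le)).le ⟨y.2, H42.mem_normalizer_of_conj_mem fun v hv => ?_⟩
    exact H42.conj_mem_of_mem_normalizer hy (x := ⟨v, hVR hv⟩) hv
  obtain rfl := le_antisymm e hVR
  intro hd
  rw [← (centralizer ({x} : Set G)).card_mul_index, ← H42.card_mul_relIndex hVx, mul_assoc, mul_comm 4,
    Nat.mul_dvd_mul_iff_left Nat.card_pos] at hd
  refine h4 (Nat.Coprime.dvd_of_dvd_mul_left ?_ hd)
  exact (Nat.coprime_two_left.2 (Nat.not_even_iff_odd.1 fun h => hR.ndvd (even_iff_two_dvd.1 h))).pow_left 2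

end Cfsg.Agent.CS4
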