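import Cfsg.Agent.CS4.Defs

set_option autoImplicit false

namespace Cfsg.Agent.CS4

open Subgroup

universe u

variable {S : Type*} [Group S] [Finite S]

/-- a fixed-point-free involution inverts -/
theorem CIT_inv (hC : ∀ t x : S, t * t = 1 → t ≠ 1 → t * x = x * t → Odd (orderOf x) → x = 1)
    {H A : Subgroup S} (hA : ∀ g, g ∈ A ↔ g ∈ H ∧ Odd (orderOf g)) {w x : S} (hw : w ∈ H) (w2 : w * w = 1)
    (w1 : w ≠ 1) (hx : x ∈ A) : w * x * w⁻¹ = x⁻¹ := by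
  have wi : w⁻¹ = w := inv_eq_of_mul_eq_one_right w2
  have nA : ∀ a ∈ A, w * a * w⁻¹ ∈ A := fun a ha => (hA _).2
    ⟨H.mul_mem (H.mul_mem hw ((hA a).1 ha).1) (H.inv_mem hw), by
      have : orderOf (w * a * w⁻¹) = orderOf a := (MulAut.conj w).orderOf_eq a
      rw [this]; exact ((hA a).1 ha).2⟩
  let f : A → A := fun a => ⟨(a : S)⁻¹ * (w * a * w⁻¹), A.mul_mem (A.inv_mem a.2) (nA _ a.2)⟩
  have inj : Function.Injective f := fun a b e => by
    have e' : (a : S)⁻¹ * (w * a * w⁻¹) = (b : S)⁻¹ * (w * b * w⁻¹) := congrArg Subtype.val e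
    have := hC w ((b : S) * (a : S)⁻¹) w2 w1 (by
      calc w * ((b : S) * (a : S)⁻¹) = b * ((b : S)⁻¹ * (w * b * w⁻¹)) * (w * (a : S)⁻¹) := by group
        _ = b * ((a : S)⁻¹ * (w * a * w⁻¹)) * (w * (a : S)⁻¹) := by rw [e']
        _ = _ := by group) ((hA _).1 (A.mul_mem b.2 (A.inv_mem a.2))).2
    exact Subtype.ext (mul_inv_eq_one.1 this).symm
  obtain ⟨a, ha⟩ := Finite.injective_iff_surjective.1 inj ⟨x, hx⟩
  have e : (a : S)⁻¹ * (w * a * w⁻¹) = x := congrArg Subtype.val ha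
  rw [← e]
  calc w * ((a : S)⁻¹ * (w * a * w⁻¹)) * w⁻¹ = w * (a : S)⁻¹ * w * a * (w * w)⁻¹ := by group
    _ = w * (a : S)⁻¹ * w⁻¹ * a := by rw [w2, wi]; group
    _ = _ := by group

open Pointwise in
theorem CIT_fixed (τ : MulAut S) (h2 : τ * τ = 1) : ∃ Q : Sylow 2 S, ∀ g ∈ (Q : Subgroup S), τ g ∈ (Q : Subgroup S) := by
  classical
  have := Fintype.ofFinite (Sylow 2 S)
  obtain ⟨Q, hQ⟩ := Equiv.Perm.exists_fixed_point_of_prime (p := 2) (n := 1)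
    (σ := MulAction.toPerm τ) (α := Sylow 2 S)
    (by rw [← Nat.card_eq_fintype_card]; exact not_dvd_card_sylow 2 S)
    (by
      ext Q : 1
      show τ • τ • Q = Q
      rw [← mul_smul, h2, one_smul])
  refine ⟨Q, fun g hg => ?_⟩
  have e : τ • (Q : Subgroup S) = Q := congrArg (fun R : Sylow 2 S => (R : Subgroup S)) hQ
  rw [← e]
  exact smul_mem_pointwise_smul g τ _ hg

theorem CIT_three (τ : MulAut S) (h2 : τ * τ = 1) (E : Subgroup S) (sq : ∀ e ∈ E, e * e = 1)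
    (inv : ∀ e ∈ E, τ e ∈ E) (h8 : 8 ≤ Nat.card E) :
    ∃ u v : S, u ∈ fix τ ∧ v ∈ fix τ ∧ u * u = 1 ∧ v * v = 1 ∧ u * v * (u * v) = 1 ∧ u ≠ 1 ∧ v ≠ 1 ∧ u * v ≠ 1 := by
  classical
  have iv : ∀ e ∈ E, e⁻¹ = e := fun e he => inv_eq_of_mul_eq_one_right (sq e he)
  have cm : ∀ a ∈ E, ∀ b ∈ E, a * b = b * a := fun a ha b hb => by
    rw [← iv _ (E.mul_mem ha hb), mul_inv_rev, iv a ha, iv b hb]
  have tt : ∀ g, τ (τ g) = g := fun g => by rw [← MulAut.mul_apply, h2, MulAut.one_apply]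
  let φ : E →* E := MonoidHom.mk' (fun e => ⟨e * τ e, E.mul_mem e.2 (inv _ e.2)⟩) fun a b => Subtype.ext (by
    show (a : S) * b * τ ((a : S) * b) = a * τ a * (b * τ b)
    rw [map_mul, mul_assoc, mul_assoc, ← mul_assoc (b : S), cm _ b.2 _ (inv _ a.2), mul_assoc])
  have k1 : φ.ker ≤ (fix τ).subgroupOf E := fun e he => by
    have : (e : S) * τ e = 1 := congrArg Subtype.val he
    show τ e = e
    rw [← inv_eq_of_mul_eq_one_right this, iv _ e.2]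
  have k2 : φ.range ≤ (fix τ).subgroupOf E := by
    rintro _ ⟨e, rfl⟩
    show τ ((e : S) * τ e) = e * τ e
    rw [map_mul, tt, cm _ e.2 _ (inv _ e.2)]
  have c1 := card_le_of_le k1
  have c2 := card_le_of_le k2
  have c3 : Nat.card φ.ker * Nat.card φ.range = Nat.card E := by rw [← index_ker, card_mul_index]
  have c4 : 2 < Nat.card ((fix τ).subgroupOf E) := by
    by_contra hn
    have := Nat.mul_le_mul (c1.trans (not_lt.1 hn)) (c2.trans (not_lt.1 hn))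
    omega
  have := Fintype.ofFinite ((fix τ).subgroupOf E)
  rw [Nat.card_eq_fintype_card, Fintype.two_lt_card_iff] at c4
  obtain ⟨a, b, c, ab, ac, bc⟩ := c4
  have ne : ∀ a b : (fix τ).subgroupOf E, a ≠ b → ((a : E) : S) * ((b : E) : S) ≠ 1 := fun a b h e =>
    h (Subtype.ext (Subtype.ext (by rw [← inv_eq_of_mul_eq_one_right e, iv _ a.1.2])))
  have m1 := E.mul_mem a.1.2 b.1.2
  have m2 := E.mul_mem a.1.2 c.1.2
  refine ⟨_, _, (fix τ).mul_mem a.2 b.2, (fix τ).mul_mem a.2 c.2, sq _ m1, sq _ m2, sq _ (E.mul_mem m1 m2),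
    ne _ _ ab, ne _ _ ac, ?_⟩
  show ((a : E) : S) * ((b : E) : S) * (((a : E) : S) * ((c : E) : S)) ≠ 1
  rw [cm _ a.1.2 _ b.1.2, mul_assoc, ← mul_assoc ((a : E) : S), sq _ a.1.2, one_mul]
  exact ne _ _ bc

/-- notes/CS4.md, section CIT -/
theorem cit_not_star (hC : ∀ t x : S, t * t = 1 → t ≠ 1 → t * x = x * t → Odd (orderOf x) → x = 1)
    (P : Sylow 2 S) (E : Subgroup S) (hE : ∀ e, e ∈ E ↔ e ∈ (P : Subgroup S) ∧ e * e = 1)
    (h8 : 8 ≤ Nat.card E) (hx : ∃ x : S, x ≠ 1 ∧ PP x) : ¬ Star S := by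
  intro hS
  obtain ⟨x, x1, xp⟩ := hx
  obtain ⟨τ, -, t2, tx, A, hA⟩ := hS x x1 xp
  obtain ⟨Q, hQ⟩ := CIT_fixed τ t2
  obtain ⟨g, rfl⟩ := MulAction.exists_smul_eq S P Q
  have mem : ∀ e, e ∈ E.map (MulAut.conj g).toMonoidHom ↔ e ∈ ((g • P : Sylow 2 S) : Subgroup S) ∧ e * e = 1 := by
    intro e
    rw [Sylow.coe_subgroup_smul, mem_pointwise_smul_iff_inv_smul_mem, mem_map_equiv, hE, ← map_mul,
      MulEquiv.map_eq_one_iff]
    rfl
  obtain ⟨u, v, fu, fv, u2, v2, uv2, u1, v1, uv1⟩ := CIT_three τ t2 (E.map (MulAut.conj g).toMonoidHom)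
    (fun e he => ((mem e).1 he).2)
    (fun e he => (mem _).2 ⟨hQ e ((mem e).1 he).1, by rw [← map_mul, ((mem e).1 he).2, map_one]⟩)
    (by rwa [card_map_of_injective (MulAut.conj g).injective])
  have xA : x ∈ A := (hA x).2 ⟨tx, xp.odd⟩
  have a := CIT_inv hC hA fu u2 u1 xA
  have b := CIT_inv hC hA fv v2 v1 xA
  refine x1 (hC (u * v) x uv2 uv1 ?_ xp.odd)
  calc u * v * x = u * (v * x * v⁻¹) * v := by group
    _ = (u * x * u⁻¹)⁻¹ * (u * v) := by rw [b]; group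
    _ = _ := by rw [a, inv_inv]

end Cfsg.Agent.CS4
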