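import Cfsg.Agent.CS4.Defs

set_option autoImplicit false

namespace Cfsg.Agent.CS4

open Subgroup

universe u

variable {G : Type u} [Group G] [Finite G]

namespace NilA

omit [Finite G] in
theorem lift {Y : Type*} [Group Y] (f : G →* Y) {x : G} {a b : ℕ} (hn : x ^ (b * a) = 1)
    (hc : (orderOf (f x)).Coprime b) : ∃ x' : G, f x' = f x ∧ x' ^ a = 1 := by
  obtain ⟨e, e1, e2⟩ := Nat.chineseRemainder hc 1 0
  obtain ⟨c, rfl⟩ := (Nat.modEq_zero_iff_dvd).1 e2
  refine ⟨x ^ (b * c), by rw [map_pow, pow_eq_pow_iff_modEq.2 e1, pow_one], ?_⟩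
  rw [← pow_mul, mul_right_comm, pow_mul, hn, one_pow]

theorem two_quot {H K : Subgroup G} [(K.subgroupOf H).Normal] (h : ∀ g ∈ H, Odd (orderOf g) → g ∈ K) :
    IsPGroup 2 (H ⧸ K.subgroupOf H) := fun y => by
  obtain ⟨g, rfl⟩ := QuotientGroup.mk'_surjective _ y
  obtain ⟨j, m, hm, e⟩ := Nat.exists_eq_two_pow_mul_odd (orderOf_pos (g : G)).ne'
  refine ⟨j, ?_⟩
  rw [← map_pow, QuotientGroup.mk'_apply, QuotientGroup.eq_one_iff, mem_subgroupOf]
  refine h _ (g ^ 2 ^ j).2 (hm.of_dvd_nat (orderOf_dvd_of_pow_eq_one ?_))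
  rw [coe_pow, ← pow_mul, ← e, pow_orderOf_eq_one]

theorem solv {H K : Subgroup G} (hKH : K ≤ H) (hn : H ≤ normalizer (K : Set G))
    (h : ∀ g ∈ H, Odd (orderOf g) → g ∈ K) (hK : Group.IsSolvable K) : Group.IsSolvable H := by
  have := Fact.mk Nat.prime_two
  have := H49.normal_subgroupOf hn
  have := (two_quot h).isNilpotent
  exact Group.isSolvable_of_ker_le_range (inclusion hKH) (QuotientGroup.mk' (K.subgroupOf H)) (by
    rw [QuotientGroup.ker_mk', inclusion_range])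

end NilA

/-- notes/CS4.md, section NilA -/
theorem Nil2.mem_oc {H : Subgroup G} (h : Nil2 H) {g : G} (hg : g ∈ H) (ho : Odd (orderOf g)) : g ∈ oc H := by
  have := Fact.mk Nat.prime_two
  obtain ⟨A, hA⟩ := h
  refine le_oc (fun a ha => ((hA a).1 ha).1) (H49.le_norm_iff.2 fun a ha x hx => (hA _).2
    ⟨mul_mem (mul_mem ha ((hA x).1 hx).1) (inv_mem ha), (MulAut.conj a).orderOf_eq x ▸ ((hA x).1 hx).2⟩) ?_
    ((hA g).2 ⟨hg, ho⟩)
  rw [← Nat.not_even_iff_odd, even_iff_two_dvd]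
  intro h2
  obtain ⟨a, ha⟩ := exists_prime_orderOf_dvd_card' 2 h2
  have := ((hA a).1 a.2).2
  rw [orderOf_coe, ha] at this
  exact absurd this (by decide)

/-- notes/CS4.md, section NilA -/
theorem Nil2.solvable {H : Subgroup G} (h : Nil2 H) : Group.IsSolvable H :=
  NilA.solv (oc_le H) (norm_oc le_normalizer) (fun _ => h.mem_oc) (S0205.result (oc_odd H))

/-- notes/CS4.md, section NilA -/
theorem Nil2.hasNormal {H : Subgroup G} (h : Nil2 H) : HasNormalPComplement 2 H := by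
  have := Fact.mk Nat.prime_two
  have hn := H49.normal_subgroupOf (norm_oc (le_normalizer (H := H)))
  obtain ⟨P⟩ : Nonempty (Sylow 2 H) := inferInstance
  obtain ⟨n, e⟩ := IsPGroup.iff_card.1 (NilA.two_quot (K := oc H) fun _ => h.mem_oc)
  obtain ⟨k, e'⟩ := IsPGroup.iff_card.1 P.2
  have ho : Odd (Nat.card ((oc H).subgroupOf H)) := by
    rw [Nat.card_congr (subgroupOfEquivOfLe (oc_le H)).toEquiv]; exact oc_odd H
  refine ⟨P, _, hn, isComplement'_of_disjoint_and_mul_eq_univ (disjoint_iff.2 (inf_eq_bot_of_coprime ?_)) ?_⟩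
  · rw [e']; exact (Nat.coprime_two_right.2 ho).pow_right k
  · rw [← normal_mul, Set.eq_univ_iff_forall]
    suffices (oc H).subgroupOf H ⊔ P = ⊤ by rw [this]; exact fun _ => trivial
    refine index_eq_one.1 (Nat.eq_one_of_dvd_coprimes (a := 2 ^ n) ?_ (e ▸ index_dvd_of_le le_sup_left)
      (index_dvd_of_le le_sup_right))
    exact ((Nat.Prime.coprime_iff_not_dvd Nat.prime_two).2 P.not_dvd_index).pow_left n

/-- notes/CS4.md, section NilA -/
theorem mem_of_pp {H K : Subgroup G} (h : ∀ g ∈ H, PP g → g ∈ K) {g : G} (hg : g ∈ H)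
    (ho : Odd (orderOf g)) : g ∈ K := by
  refine zpowers_le.1 (H44.le_of_sylow_le fun p hp hd => ?_)
  obtain ⟨P⟩ : Nonempty (Sylow p (zpowers g)) := inferInstance
  refine ⟨P, ?_⟩
  rintro _ ⟨x, hx, rfl⟩
  obtain ⟨k, hk⟩ := IsPGroup.iff_orderOf.1 P.2 ⟨x, hx⟩
  refine h _ (zpowers_le.2 hg x.2) ⟨p, k, hp.out, fun e => ?_, by rw [← hk]; simp⟩
  rw [Nat.card_zpowers, e] at hd
  exact Nat.not_even_iff_odd.2 ho (even_iff_two_dvd.2 hd)

/-- notes/CS4.md, section NilA -/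
theorem solvable_of_pp {H K : Subgroup G} (hKH : K ≤ H) (hn : H ≤ normalizer (K : Set G))
    (h : ∀ g ∈ H, PP g → g ∈ K) (hK : Group.IsSolvable K) : Group.IsSolvable H :=
  NilA.solv hKH hn (fun _ => mem_of_pp h) hK

/-- notes/CS4.md, section NilA -/
theorem exists_pp_map {Y : Type*} [Group Y] (f : G →* Y) (hf : Function.Surjective f) {y : Y} {r k : ℕ}
    (hr : r.Prime) (hy : orderOf y = r ^ k) : ∃ (x : G) (j : ℕ), f x = y ∧ orderOf x = r ^ j := by
  obtain ⟨x, rfl⟩ := hf y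
  obtain ⟨j, m, hm, e⟩ := Nat.exists_eq_pow_mul_and_not_dvd (orderOf_pos x).ne' r hr.ne_one
  obtain ⟨x', h1, h2⟩ := NilA.lift f (x := x) (a := r ^ j) (b := m) (by rw [mul_comm, ← e, pow_orderOf_eq_one])
    (hy ▸ (hr.coprime_iff_not_dvd.2 hm).pow_left k)
  obtain ⟨i, -, hi⟩ := (Nat.dvd_prime_pow hr).1 (orderOf_dvd_of_pow_eq_one h2)
  exact ⟨x', i, h1, hi⟩

/-- notes/CS4.md, section NilA -/
theorem exists_odd_map {Y : Type*} [Group Y] (f : G →* Y) (hf : Function.Surjective f) {y : Y}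
    (hy : Odd (orderOf y)) : ∃ x : G, f x = y ∧ Odd (orderOf x) := by
  obtain ⟨x, rfl⟩ := hf y
  obtain ⟨j, m, hm, e⟩ := Nat.exists_eq_two_pow_mul_odd (orderOf_pos x).ne'
  obtain ⟨x', h1, h2⟩ := NilA.lift f (x := x) (a := m) (b := 2 ^ j) (by rw [← e, pow_orderOf_eq_one])
    ((Nat.coprime_two_right.2 hy).pow_right j)
  exact ⟨x', h1, hm.of_dvd_nat (orderOf_dvd_of_pow_eq_one h2)⟩

/-- notes/CS4.md, section NilA -/
theorem index_map_dvd {Y : Type*} [Group Y] (f : G →* Y) (hf : Function.Surjective f) (x : G) :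
    (centralizer ({f x} : Set Y)).index ∣ (centralizer ({x} : Set G)).index := by
  refine (index_dvd_of_le ?_).trans (Subgroup.index_map_dvd _ hf)
  rintro _ ⟨c, hc, rfl⟩
  rw [mem_centralizer_singleton_iff, ← map_mul, ← map_mul, mem_centralizer_singleton_iff.1 hc]

end Cfsg.Agent.CS4
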