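import Cfsg.Agent.CS4.Defs
import Cfsg.Agent.CS4.Base
import Cfsg.Agent.CS4.NilA

set_option autoImplicit false

namespace Cfsg.Agent.CS4

open Subgroup

universe u

variable {G : Type u} [Group G] [Finite G]

omit [Finite G] in
theorem key_zp {x : G} {V : Subgroup G} (h : V ≤ centralizer ({x} : Set G)) :
    zpowers x ≤ centralizer (V : Set G) :=
  (zpowers_le_of_mem fun v hv => (mem_centralizer_singleton_iff.1 (h hv)))

/-- notes/CS4.md, section Key -/
theorem key {x : G} (hx : Odd (orderOf x)) (h4 : ¬ 4 ∣ (centralizer ({x} : Set G)).index)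
    {V : Subgroup G} (hV : IsPGroup 2 V) (hVx : V ≤ centralizer ({x} : Set G)) :
    x ∈ oc (rad (centralizer (V : Set G)) ⊔ zpowers x) := by
  haveI : Fact (Nat.Prime 2) := ⟨Nat.prime_two⟩
  induction V using WellFoundedGT.induction with
  | ind V ih =>
  have xV := key_zp hVx
  have xY : x ∈ rad (centralizer (V : Set G)) ⊔ zpowers x := mem_sup_right (mem_zpowers x)
  have Y0le : rad (centralizer (V : Set G)) ⊔ zpowers x ≤ centralizer (V : Set G) := sup_le (rad_le _) xV
  by_cases hmax : ∀ W : Subgroup G, IsPGroup 2 W → V ≤ W → W ≤ normalizer (V : Set G) →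
      W ≤ centralizer ({x} : Set G) → W = V
  · exact oc_inf_le Y0le
      ⟨(nil2_cent hV (not_four_of_sylow h4 hV hVx hmax)).mem_oc (xV (mem_zpowers x)) hx, xY⟩
  push Not at hmax
  obtain ⟨B, hB, hVB, hBN, hBx, hne⟩ := hmax
  have IH := ih B (lt_of_le_of_ne hVB hne.symm) hB hBx
  have xB := key_zp hBx
  have CBV : centralizer (B : Set G) ≤ centralizer (V : Set G) := centralizer_le hVB
  set S := rad (centralizer (V : Set G)) with hS
  have nS : centralizer (V : Set G) ≤ normalizer (S : Set G) := norm_rad le_normalizer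
  have BS : B ≤ normalizer (S : Set G) := norm_rad (hBN.trans (H44.normalizer_le_normalizer_centralizer V))
  have Bx : B ≤ normalizer (zpowers x : Set G) :=
    (le_centralizer_iff.1 xB).trans (centralizer_le_normalizer _)
  have BY : B ≤ normalizer ((S ⊔ zpowers x : Subgroup G) : Set G) := H49.norm_sup BS Bx
  have sY0 : Group.IsSolvable ↥(S ⊔ zpowers x) :=
    H44.isSolvable_sup_of_le_normalizer (xV.trans nS) (rad_solv _) (H49.solvable_of_abelian inferInstance)
  have sY : Group.IsSolvable ↥(S ⊔ zpowers x ⊔ B) :=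
    H44.isSolvable_sup_of_le_normalizer BY sY0 (H49.solvable_of_nilpotent hB.isNilpotent)
  have r1 : S ⊓ centralizer (B : Set G) ≤ rad (centralizer (B : Set G)) :=
    le_rad_of_sn ((sn_rad _).inf_of_le CBV) (H49.solvable_of_le (rad_solv _) inf_le_left)
  have Zle : (S ⊔ zpowers x) ⊓ centralizer (B : Set G) ≤ rad (centralizer (B : Set G)) ⊔ zpowers x := by
    rintro g ⟨hg, hgB⟩
    have hg' : g ∈ ((S ⊔ zpowers x : Subgroup G) : Set G) := hg
    rw [coe_mul_of_right_le_normalizer_left _ _ (xV.trans nS)] at hg'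
    obtain ⟨s, hs, y, hy, rfl⟩ := hg'
    refine mul_mem_sup (r1 ⟨hs, ?_⟩) hy
    exact (mul_mem_cancel_right (xB hy)).1 hgB
  have xZ : x ∈ oc ((S ⊔ zpowers x) ⊓ centralizer (B : Set G)) :=
    oc_inf_le Zle ⟨IH, xY, xB (mem_zpowers x)⟩
  have sn : H44.SN ((S ⊔ zpowers x ⊔ B) ⊓ centralizer (B : Set G)) ((S ⊔ zpowers x) ⊓ centralizer (B : Set G)) :=
    (H44.SN.of_le_normalizer le_sup_left (sup_le le_normalizer BY)).inf_right _
  exact oc_inf_le le_sup_left ⟨oc_cent_le sY le_sup_right hB (oc_le_of_sn sn xZ), xY⟩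

end Cfsg.Agent.CS4
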