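import Cfsg.Agent.CS4.Defs

set_option autoImplicit false

namespace Cfsg.Agent.CS4

open Subgroup

universe u

variable {G : Type u} [Group G] [Finite G]

/-- notes/CS4.md, section Min -/
theorem exists_cfg (h : ¬ Group.IsSolvable G) : Nonempty (Cfg G) := by
  have top : ¬ Group.IsSolvable (⊤ : Subgroup G) := fun _ =>
    h (Group.isSolvable_of_surjective (f := (⊤ : Subgroup G).subtype) fun g => ⟨⟨g, trivial⟩, rfl⟩)
  obtain ⟨⟨U₀, L⟩, ⟨a1, a2, a3⟩, hL⟩ := Set.exists_min_image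
    {x : Subgroup G × Subgroup G | IsPGroup 2 x.1 ∧ H44.SN (centralizer (x.1 : Set G)) x.2 ∧ ¬ Group.IsSolvable x.2}
    (fun x => Nat.card x.2) (Set.toFinite _)
    ⟨(⊥, ⊤), IsPGroup.of_bot, H44.SN.of_normal fun g _ x hx => by rw [mem_bot.1 hx, one_mul, mul_one], top⟩
  obtain ⟨U, ⟨b1, b2⟩, hU⟩ := Set.exists_max_image
    {V : Subgroup G | IsPGroup 2 V ∧ H44.SN (centralizer (V : Set G)) L} (fun V => Nat.card V) (Set.toFinite _)
    ⟨U₀, a1, a2⟩
  exact ⟨⟨U, L, b1, b2, a3, fun V D h1 h2 h3 => by_contra fun h4 => (hL (V, D) ⟨h1, h2, h4⟩).not_gt h3,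
    fun V h1 h2 => hU V ⟨h1, h2⟩⟩⟩

/-- notes/CS4.md, section Min -/
theorem Cfg.le_rad (C : Cfg G) {D : Subgroup G} (h : H44.SN C.L D) (hne : D ≠ C.L) : D ≤ rad C.L := by
  refine le_rad_of_sn h (C.min C.U D C.two (C.sn.trans h) ?_)
  exact lt_of_not_ge fun a => hne (eq_of_le_of_card_ge h.le a)

/-- notes/CS4.md, section Min -/
theorem Cfg.simple (C : Cfg G) : IsSimpleGroup C.S := by
  have : Nontrivial C.S := by
    by_contra a
    have := not_nontrivial_iff_subsingleton.1 a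
    have := rad_solv C.L
    exact C.nsol (Group.isSolvable_of_isSolvable_injective (f := inclusion fun g hg =>
      (C.π_eq_one_iff ⟨g, hg⟩).1 (Subsingleton.elim _ _)) (inclusion_injective _))
  refine ⟨fun N hN => ?_⟩
  have := hN.comap C.π
  by_cases e : (N.comap C.π).map C.L.subtype = C.L
  · refine .inr (eq_top_iff.2 fun y _ => ?_)
    obtain ⟨c, rfl⟩ := C.π_surj y
    exact (mem_map_iff_mem (subtype_injective _)).1 (e.ge c.2)
  · refine .inl (eq_bot_iff.2 fun y hy => ?_)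
    obtain ⟨c, rfl⟩ := C.π_surj y
    exact (C.π_eq_one_iff c).2 (C.le_rad (H44.sn_map_subtype this.isSubnormal) e ⟨c, hy, rfl⟩)

/-- notes/CS4.md, section Min -/
theorem Cfg.nsol_S (C : Cfg G) : ¬ Group.IsSolvable C.S := by
  intro h
  have := rad_solv C.L
  exact C.nsol (Group.isSolvable_of_ker_le_range (inclusion (rad_le C.L)) C.π fun c hc =>
    ⟨⟨c, (C.π_eq_one_iff c).1 hc⟩, rfl⟩)

/-- notes/CS4.md, section Min -/
theorem Cfg.exists_aut (C : Cfg G) {u : G} (hu : u ∈ normalizer (C.L : Set G)) :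
    ∃ τ : MulAut C.S, ∀ c d : C.L, (d : G) = u * c * u⁻¹ → τ (C.π c) = C.π d := by
  refine ⟨QuotientGroup.congr _ _ (C.L.normalizerMonoidHom ⟨u, hu⟩) (le_antisymm ?_ fun c hc => ?_), fun c d e => ?_⟩
  · rintro _ ⟨c, hc, rfl⟩
    exact (mem_normalizer_iff.1 (norm_rad le_rfl hu) c).1 hc
  · obtain ⟨c, rfl⟩ := (C.L.normalizerMonoidHom ⟨u, hu⟩).surjective c
    exact ⟨c, (mem_normalizer_iff.1 (norm_rad le_rfl hu) c).2 hc, rfl⟩
  · exact congrArg C.π (Subtype.ext e.symm)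

end Cfsg.Agent.CS4
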