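import Cfsg.Agent.CS4.Defs
import Cfsg.Agent.CS4.Key
import Cfsg.Agent.CS4.Min

set_option autoImplicit false

namespace Cfsg.Agent.CS4

open Subgroup

universe u

variable {G : Type u} [Group G] [Finite G] (C : Cfg G)

namespace Cent

theorem pp (h : H4 G) {m x : G} (hm : m ∈ rad C.L) (hx : x ∈ C.L) (hp : PP x) : m * x * m⁻¹ * x⁻¹ ∈ oc C.L := by
  have k := key hp.odd (h x hp) C.two fun u hu => mem_centralizer_singleton_iff.2 (C.sn.le hx u hu)
  have l : rad C.L ≤ rad (centralizer (C.U : Set G)) ⊔ zpowers x :=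
    (le_rad_of_sn (C.sn.trans (sn_rad _)) (rad_solv _)).trans le_sup_left
  refine oc_le_of_sn (sn_rad _) (oc_inf_le l (mem_inf.2
    ⟨mul_mem (H49.le_norm_iff.1 (norm_oc le_normalizer) m (l hm) x k) (inv_mem k), ?_⟩))
  have := mul_mem hm (H49.le_norm_iff.1 (norm_rad le_normalizer) x hx _ (inv_mem hm))
  simpa only [mul_assoc] using this

end Cent

/-- notes/CS4.md, section Cent -/
theorem Cfg.comm_mem (h : H4 G) {m c : G} (hm : m ∈ rad C.L) (hc : c ∈ C.L) : m * c * m⁻¹ * c⁻¹ ∈ oc C.L := by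
  have no := H49.le_norm_iff.1 (norm_oc (le_normalizer (H := C.L)))
  have nr := H49.le_norm_iff.1 (norm_rad (le_normalizer (H := C.L)))
  let K : Subgroup G :=
    { carrier := {c | c ∈ C.L ∧ ∀ m ∈ rad C.L, m * c * m⁻¹ * c⁻¹ ∈ oc C.L}
      one_mem' := ⟨one_mem _, fun m _ => by simp⟩
      mul_mem' := fun {a b} ha hb => ⟨mul_mem ha.1 hb.1, fun m hm => by
        convert mul_mem (ha.2 m hm) (no a ha.1 _ (hb.2 m hm)) using 1
        group⟩
      inv_mem' := fun {a} ha => ⟨inv_mem ha.1, fun m hm => by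
        convert no _ (inv_mem ha.1) _ (inv_mem (ha.2 m hm)) using 1
        group⟩ }
  have le : K ≤ C.L := fun _ k => k.1
  have nK : C.L ≤ normalizer (K : Set G) := H49.le_norm_iff.2 fun g hg a ha =>
    ⟨mul_mem (mul_mem hg ha.1) (inv_mem hg), fun m hm => by
      convert no g hg _ (ha.2 _ (nr _ (inv_mem hg) m hm)) using 1
      group⟩
  by_cases e : K = C.L
  · exact (e.ge hc).2 m hm
  · have := rad_solv C.L
    exact absurd (solvable_of_pp le nK (fun g hg hp => ⟨hg, fun m hm => Cent.pp C h hm hg hp⟩)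
      (Group.isSolvable_of_isSolvable_injective (inclusion_injective (C.le_rad (.of_le_normalizer le nK) e)))) C.nsol

/-- notes/CS4.md, section Cent -/
theorem Cfg.odd_mem (h : H4 G) {m : G} (hm : m ∈ rad C.L) (ho : Odd (orderOf m)) : m ∈ oc C.L := by
  have mL := rad_le _ hm
  refine le_oc (N := oc C.L ⊔ zpowers m) (sup_le (oc_le _) (zpowers_le.2 mL)) (fun g hg =>
    H49.mem_norm_of_cj_le ?_) ?_ (mem_sup_right (mem_zpowers m))
  · rw [H49.cj_sup, H49.cj_eq_of_mem_norm (norm_oc le_normalizer hg), H49.cj_zpowers]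
    refine sup_le le_sup_left (zpowers_le.2 ?_)
    convert mul_mem (mem_sup_left (inv_mem (C.comm_mem h hm hg))) (mem_sup_right (mem_zpowers m)) using 1
    group
  · exact isPi_iff.1 ((isPi_iff.2 (oc_odd _)).sup (isPi_iff.2 (by rwa [Nat.card_zpowers]))
      (.inr (norm_oc ((zpowers_le.2 mL).trans le_normalizer))))

end Cfsg.Agent.CS4
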