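/-
Project CS4 (S4131, S4132): definitions. See notes/CS4.md.
-/
import Cfsg.Agent.H49.Core
import Cfsg.Agent.H48.Coprime
import Cfsg.Agent.H44.Subnormal
import Cfsg.Agent.H44.Cores
import Cfsg.Agent.S0205
import Cfsg.Prelude.Def_Transfer
import Cfsg.Prelude.Def_SolvableStructure

set_option autoImplicit false

namespace Cfsg.Agent.CS4

open Subgroup

universe u

/-- `x` has odd prime power order (`x = 1` allowed) -/
def PP {G : Type*} [Group G] (x : G) : Prop := ∃ r k : ℕ, r.Prime ∧ r ≠ 2 ∧ orderOf x = r ^ k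

/-- `4` divides no class size of an element of odd prime power order -/
def H4 (G : Type*) [Group G] : Prop := ∀ x : G, PP x → ¬ 4 ∣ (centralizer ({x} : Set G)).index

/-- all elements of prime power order have squarefree class size -/
def SQ (G : Type*) [Group G] : Prop :=
  ∀ x : G, (∃ r k : ℕ, r.Prime ∧ orderOf x = r ^ k) → Squarefree (centralizer ({x} : Set G)).index

/-- the elements of odd order of `H` form a subgroup -/
def Nil2 {G : Type*} [Group G] (H : Subgroup G) : Prop :=
  ∃ A : Subgroup G, ∀ g, g ∈ A ↔ g ∈ H ∧ Odd (orderOf g)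

/-- the fixed points of an automorphism -/
def fix {S : Type*} [Group S] (τ : MulAut S) : Subgroup S where
  carrier := {g | τ g = g}
  mul_mem' := fun {a b} ha hb => by
    simp only [Set.mem_setOf_eq] at ha hb ⊢; rw [map_mul, ha, hb]
  one_mem' := map_one τ
  inv_mem' := fun {a} ha => by simp only [Set.mem_setOf_eq] at ha ⊢; rw [map_inv, ha]

theorem mem_fix {S : Type*} [Group S] {τ : MulAut S} {g : S} : g ∈ fix τ ↔ τ g = g := Iff.rfl

/-- every element of odd prime power order is fixed by an involutory automorphism whose fixed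
points of odd order form a subgroup -/
def Star (S : Type*) [Group S] : Prop :=
  ∀ x : S, x ≠ 1 → PP x → ∃ τ : MulAut S, τ ≠ 1 ∧ τ * τ = 1 ∧ τ x = x ∧ Nil2 (fix τ)

/-- the subgroup generated by all commutators and all `x ^ r` for `r`-elements `x` -/
def DD (G : Type*) [Group G] : Subgroup G :=
  commutator G ⊔ closure {y : G | ∃ (x : G) (r k : ℕ), r.Prime ∧ orderOf x = r ^ k ∧ y = x ^ r}

variable {G : Type u} [Group G]

/-- `O(H)` in the ambient group -/
def oc (H : Subgroup G) : Subgroup G := piCoreOf {2}ᶜ H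

/-- the solvable radical of `H` in the ambient group -/
def rad (H : Subgroup G) : Subgroup G := H44.radOf H44.SolC H

theorem PP.odd {x : G} (h : PP x) : Odd (orderOf x) := by
  obtain ⟨r, k, hr, h2, e⟩ := h
  rw [e]; exact (hr.odd_of_ne_two h2).pow

theorem isPi_iff [Finite G] {H : Subgroup G} : H49.IsPi {2}ᶜ H ↔ Odd (Nat.card H) := by
  constructor
  · intro h
    rw [← Nat.not_even_iff_odd]
    intro he
    exact h 2 Nat.prime_two (even_iff_two_dvd.1 he) rfl
  · intro h p _ hd hp
    have : p = 2 := hp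
    subst this
    exact (Nat.not_even_iff_odd.2 h) (even_iff_two_dvd.2 hd)

section
variable [Finite G]

theorem oc_le (H : Subgroup G) : oc H ≤ H := H49.piCoreOf_le _ H
theorem oc_odd (H : Subgroup G) : Odd (Nat.card (oc H)) := isPi_iff.1 (H49.piCoreOf_pi _ H)
theorem norm_oc {A H : Subgroup G} (h : A ≤ normalizer (H : Set G)) :
    A ≤ normalizer (oc H : Set G) := H49.norm_piCoreOf _ h
theorem le_oc {N H : Subgroup G} (hN : N ≤ H) (hn : H ≤ normalizer (N : Set G))
    (h : Odd (Nat.card N)) : N ≤ oc H := H49.le_piCoreOf hN hn (isPi_iff.2 h)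
theorem oc_inf_le {K H : Subgroup G} (h : K ≤ H) : oc H ⊓ K ≤ oc K := H49.piCoreOf_inf_le _ h
theorem oc_le_of_sn {K H : Subgroup G} (h : H44.SN H K) : oc K ≤ oc H :=
  (H44.eclass_PiC {2}ᶜ).fclass.radOf_le_radOf_of_sn h
theorem odd_of_mem_oc {H : Subgroup G} {g : G} (h : g ∈ oc H) : Odd (orderOf g) :=
  (oc_odd H).of_dvd_nat (by simpa using orderOf_dvd_natCard (⟨g, h⟩ : oc H))
/-- Bender's lemma -/
theorem oc_cent_le {X P : Subgroup G} (hX : Group.IsSolvable X) (hPX : P ≤ X) (hP : IsPGroup 2 P) :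
    oc (X ⊓ centralizer (P : Set G)) ≤ oc X := H48.pcore_cent_le Nat.prime_two hX hPX hP

theorem rad_le (H : Subgroup G) : rad H ≤ H := H44.radOf_le H
theorem rad_solv (H : Subgroup G) : Group.IsSolvable (rad H) := H44.eclass_SolC.fclass.radOf_mem H
theorem norm_rad {A H : Subgroup G} (h : A ≤ normalizer (H : Set G)) :
    A ≤ normalizer (rad H : Set G) :=
  h.trans (H44.eclass_SolC.fclass.normalizer_le_normalizer_radOf H)
theorem le_rad_of_sn {K H : Subgroup G} (h : H44.SN H K) (hs : Group.IsSolvable K) : K ≤ rad H :=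
  H44.eclass_SolC.fclass.le_radOf_of_sn h hs
theorem sn_rad (H : Subgroup G) : H44.SN H (rad H) := H44.sn_radOf H
theorem oc_le_rad (H : Subgroup G) : oc H ≤ rad H :=
  le_rad_of_sn (H44.SN.of_le_normalizer (oc_le H) (norm_oc le_normalizer))
    (S0205.result (oc_odd H))
end

instance rad_normal (H : Subgroup G) : ((rad H).subgroupOf H).Normal := by
  unfold rad; rw [H44.radOf_subgroupOf]; exact Subgroup.sSup_normal _ (fun _ h => h.1)

/-- a minimal nonsolvable subnormal subgroup `L` of the centralizer of a 2-subgroup `U` -/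
structure Cfg (G : Type u) [Group G] where
  U : Subgroup G
  L : Subgroup G
  two : IsPGroup 2 U
  sn : H44.SN (centralizer (U : Set G)) L
  nsol : ¬ Group.IsSolvable L
  min : ∀ V D : Subgroup G, IsPGroup 2 V → H44.SN (centralizer (V : Set G)) D →
    Nat.card D < Nat.card L → Group.IsSolvable D
  max : ∀ V : Subgroup G, IsPGroup 2 V → H44.SN (centralizer (V : Set G)) L →
    Nat.card V ≤ Nat.card U

/-- the simple quotient -/
abbrev Cfg.S (C : Cfg G) : Type u := ↥C.L ⧸ (rad C.L).subgroupOf C.L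

/-- the projection onto the simple quotient -/
def Cfg.π (C : Cfg G) : ↥C.L →* C.S := QuotientGroup.mk' _

theorem Cfg.π_surj (C : Cfg G) : Function.Surjective C.π := QuotientGroup.mk'_surjective _

theorem Cfg.π_eq_iff (C : Cfg G) (a b : C.L) : C.π a = C.π b ↔ (a : G)⁻¹ * b ∈ rad C.L := by
  show ((a : C.S) = (b : C.S)) ↔ _
  rw [QuotientGroup.eq, mem_subgroupOf]; rfl

theorem Cfg.π_eq_one_iff (C : Cfg G) (a : C.L) : C.π a = 1 ↔ (a : G) ∈ rad C.L := by
  show ((a : C.S) = 1) ↔ _
  rw [QuotientGroup.eq_one_iff, mem_subgroupOf]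

end Cfsg.Agent.CS4
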