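import Cfsg.Agent.CS4.Defs
import Cfsg.Agent.CS4.NilA
import Cfsg.Agent.H84.SqFree

set_option autoImplicit false

namespace Cfsg.Agent.CS4

open Subgroup

universe u

variable {G : Type u} [Group G] [Finite G]

/-- notes/CS4.md, section MinN -/
theorem SQ.map {Y : Type*} [Group Y] (h : SQ G) (f : G →* Y) (hf : Function.Surjective f) : SQ Y := by
  rintro y ⟨r, k, hr, hy⟩
  obtain ⟨x, j, rfl, hx⟩ := exists_pp_map f hf hr hy
  exact (h x ⟨r, j, hr, hx⟩).squarefree_of_dvd (index_map_dvd f hf x)

/-- notes/CS4.md, section MinN -/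
theorem SQ.min_prime [Group.IsSolvable G] (h : SQ G) (N : Subgroup G) [N.Normal] (hN : N ≠ ⊥)
    (hmin : ∀ K : Subgroup G, K.Normal → K ≤ N → K = ⊥ ∨ K = N) : (Nat.card N).Prime := by
  obtain ⟨hc, p, hp, hd, -, hNp⟩ := H19.minimal_normal_of_solvable N hN hmin
  haveI := Fact.mk hp
  have fin : Nat.card N ∣ p → (Nat.card N).Prime := fun e => Nat.dvd_antisymm e hd ▸ hp
  by_cases hC : centralizer (N : Set G) = ⊤
  · obtain ⟨x, hx⟩ := exists_prime_orderOf_dvd_card' p hd
    have ho : Nat.card (zpowers (x : G)) = p := by rw [Nat.card_zpowers, Subgroup.orderOf_coe, hx]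
    rcases hmin (zpowers (x : G)) ⟨fun y hy g => by
      rwa [← hC.ge (mem_top g) y (zpowers_le.2 x.2 hy), mul_inv_cancel_right]⟩ (zpowers_le.2 x.2) with e | e
    · rw [e, card_bot] at ho
      exact absurd ho.symm hp.ne_one
    · exact fin (by rw [← e, ho])
  obtain ⟨B, hB, b1, -, b2⟩ := H19.exists_minimal_normal_le (⊤ : Subgroup (G ⧸ centralizer (N : Set G))) fun e =>
    hC (eq_top_iff.2 fun g _ => (QuotientGroup.eq_one_iff g).1 (mem_bot.1 (e.le (mem_top _))))
  obtain ⟨-, q, hq, -, b3, -⟩ := H19.minimal_normal_of_solvable B b1 b2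
  haveI := Fact.mk hq
  obtain ⟨A, hA⟩ : ∃ A, A = B.comap (QuotientGroup.mk' (centralizer (N : Set G))) := ⟨_, rfl⟩
  haveI : A.Normal := hA ▸ inferInstance
  have a1 : N ≤ A := fun x hx => by
    rw [hA, mem_comap, QuotientGroup.mk'_apply, (QuotientGroup.eq_one_iff x).2
      (mem_centralizer_iff.2 fun y hy => setLike_mul_comm (s := N) hy hx)]
    exact one_mem _
  have a2 : ¬ A ≤ centralizer (N : Set G) := fun e => b1 (eq_bot_iff.2 fun y hy => by
    obtain ⟨y, rfl⟩ := QuotientGroup.mk_surjective y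
    exact (QuotientGroup.eq_one_iff y).2 (e (hA ▸ hy)))
  have a3 : ∀ a ∈ A, (centralizer ({a} : Set G)).relIndex N ∣ p := fun a ha => by
    obtain ⟨b, c, -, hc, ⟨k, hk⟩, hc', rfl⟩ := H3.exists_p_part (p := q) a
    obtain ⟨j, -, hj⟩ := (Nat.dvd_prime_pow hq).1 (orderOf_dvd_of_pow_eq_one hk)
    have c1 : c ∈ centralizer (N : Set G) := (QuotientGroup.eq_one_iff c).1 (orderOf_eq_one_iff.1
      (Nat.eq_one_of_dvd_coprimes hc' (orderOf_map_dvd (QuotientGroup.mk' _) c)
        (orderOf_dvd_of_pow_eq_one (b3 _ (hA.le (zpowers_le.2 ha hc))))))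
    refine Dvd.dvd.trans ?_ (H84.relIndex_dvd_prime_of_squarefree hNp (h b ⟨q, j, hq, hj⟩))
    rw [← inf_relIndex_right (centralizer {b})]
    refine relIndex_dvd_of_le_left _ fun x hx => H83.mem_cent.2 ?_
    rw [← mul_assoc, H83.mem_cent.1 hx.1, mul_assoc, c1 x hx.2, mul_assoc]
  have m : (N.subgroupOf A).map A.subtype = N := by rw [subgroupOf_map_subtype, inf_eq_left.2 a1]
  rcases H84.rank_one_dichotomy hp (G := A) (N := N.subgroupOf A) (fun a x hx y hy => Subtype.ext
    (setLike_mul_comm (s := N) hx (commutator_le_right ⊤ (N.subgroupOf A) (commutator_mem_commutator (mem_top a) hy))))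
    (fun a => by
      rw [show centralizer ({a} : Set A) = (centralizer ({(a : G)} : Set G)).subgroupOf A by
        ext x; simp only [mem_subgroupOf, H83.mem_cent, Subtype.ext_iff, coe_mul], relIndex_subgroupOf a1]
      exact a3 a a.2) with e | e
  · rw [← card_map_of_injective A.subtype_injective, map_commutator, m, ← MonoidHom.range_eq_map, range_subtype] at e
    rcases hmin ⁅A, N⁆ inferInstance (commutator_le_right _ _) with e' | e'
    · exact absurd (commutator_eq_bot_iff_le_centralizer.1 e') a2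
    · exact fin (e' ▸ e)
  · rw [show center A = (centralizer (A : Set G)).subgroupOf A by
      ext x; simp only [mem_subgroupOf, mem_center_iff, mem_centralizer_iff, Subtype.ext_iff, coe_mul, Subtype.forall,
        SetLike.mem_coe], relIndex_subgroupOf a1] at e
    rcases hmin (centralizer (A : Set G) ⊓ N) inferInstance inf_le_right with e' | e'
    · rw [← inf_relIndex_right, e', relIndex_bot_left] at e
      exact fin e
    · exact absurd (le_centralizer_iff.1 (e'.ge.trans inf_le_left)) a2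

end Cfsg.Agent.CS4
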