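import Cfsg.Agent.CS4.Defs
import Cfsg.Agent.CS4.MinN
import Cfsg.Agent.H19.Supersolvable

set_option autoImplicit false

namespace Cfsg.Agent.CS4

open Subgroup

universe u

variable {G : Type u} [Group G] [Finite G]

theorem Ind.ind {P : ∀ (G : Type u) [Group G], Prop} (h0 : ∀ (G : Type u) [Group G] [Subsingleton G], P G)
    (h1 : ∀ (G : Type u) [Group G] [Finite G] (N : Subgroup G) [N.Normal], SQ G → (Nat.card N).Prime →
      P (G ⧸ N) → P G) (n : ℕ) :
    ∀ (G : Type u) [Group G] [Finite G] [Group.IsSolvable G], Nat.card G = n → SQ G → P G := by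
  induction n using Nat.strong_induction_on with
  | _ n ih =>
  intro G _ _ _ e h
  rcases subsingleton_or_nontrivial G with hs | hs
  · exact h0 G
  obtain ⟨N, hN, ne, -, hm⟩ := H19.exists_minimal_normal_le (⊤ : Subgroup G) top_ne_bot
  have pr := h.min_prime N ne hm
  refine h1 G N h pr (ih _ ?_ _ rfl (h.map (QuotientGroup.mk' N) (QuotientGroup.mk'_surjective N)))
  rw [← e, card_eq_card_quotient_mul_card_subgroup N]
  exact lt_mul_of_one_lt_right Nat.card_pos pr.one_lt

/-- notes/CS4.md, section Ind -/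
theorem SQ.super [Group.IsSolvable G] (h : SQ G) : IsSupersolvable G := by
  refine Ind.ind (P := fun G _ => IsSupersolvable G) (fun G _ _ => H19.isSupersolvable_of_subsingleton)
    (fun G _ _ N _ _ pr k => ?_) _ G rfl h
  have := Fact.mk pr
  have : IsCyclic N := isCyclic_of_prime_card rfl
  exact H19.isSupersolvable_of_quotient_cyclic N k

theorem Ind.le_cent (h : SQ G) (N : Subgroup G) [N.Normal] (pr : (Nat.card N).Prime) :
    DD G ≤ centralizer (N : Set G) := by
  have := Fact.mk pr
  have : IsCyclic N := isCyclic_of_prime_card rfl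
  let φ : G →* MulAut N := MulAut.conjNormal
  have hk : φ.ker = centralizer (N : Set G) := by
    ext g
    rw [MonoidHom.mem_ker, mem_centralizer_iff]
    refine ⟨fun e x hx => ?_, fun e => MulEquiv.ext fun x => Subtype.ext ?_⟩
    · have := congrArg (fun t : MulAut N => ((t ⟨x, hx⟩ : N) : G)) e
      exact (mul_inv_eq_iff_eq_mul.1 this).symm
    · exact mul_inv_eq_iff_eq_mul.2 (e x x.2).symm
  obtain ⟨v, hv⟩ := (Subgroup.isCyclic_iff_exists_zpowers_eq_top N).1 inferInstance
  have sq : Squarefree φ.ker.index := by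
    have := h v ⟨_, 1, pr, by rw [pow_one, ← Nat.card_zpowers, hv]⟩
    rwa [← centralizer_closure, ← zpowers_eq_closure, hv, ← hk] at this
  rw [← hk]
  refine sup_le ?_ ((closure_le _).2 ?_)
  · refine (commutator_le ..).2 fun a _ b _ => ?_
    rw [MonoidHom.mem_ker, map_commutatorElement, commutatorElement_eq_one_iff_mul_comm]
    exact (IsCyclic.mulAutMulEquiv N).injective (by rw [map_mul, map_mul, mul_comm])
  · rintro _ ⟨x, r, k, -, e, rfl⟩
    have d1 : orderOf (φ x) ∣ φ.ker.index := by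
      rw [index_ker]; exact Subgroup.orderOf_dvd_natCard _ ⟨x, rfl⟩
    have d2 : orderOf (φ x) ∣ r ^ (k + 1) := ((orderOf_map_dvd φ x).trans e.dvd).trans (pow_dvd_pow r k.le_succ)
    rw [SetLike.mem_coe, MonoidHom.mem_ker, map_pow]
    exact orderOf_dvd_iff_pow_eq_one.1 (((sq.squarefree_of_dvd d1).dvd_pow_iff_dvd k.succ_ne_zero).1 d2)

theorem Ind.map_le {Y : Type*} [Group Y] (f : G →* Y) : (DD G).map f ≤ DD Y := by
  rw [DD, Subgroup.map_sup, MonoidHom.map_closure]
  refine sup_le_sup ?_ (closure_mono ?_)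
  · rw [commutator_def, map_commutator]
    exact commutator_mono le_top le_top
  · rintro _ ⟨_, ⟨x, r, k, hr, e, rfl⟩, rfl⟩
    obtain ⟨j, -, hj⟩ := (Nat.dvd_prime_pow hr).1 ((orderOf_map_dvd f x).trans e.dvd)
    exact ⟨f x, r, j, hr, hj, map_pow f x r⟩

/-- notes/CS4.md, section Ind -/
theorem SQ.nil_DD [Group.IsSolvable G] (h : SQ G) : Group.IsNilpotent (DD G) := by
  refine Ind.ind (P := fun G _ => Group.IsNilpotent (DD G)) (fun G _ _ => inferInstance)
    (fun G _ _ N _ h pr k => ?_) _ G rfl h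
  refine _root_.isNilpotent_of_ker_le_center (((QuotientGroup.mk' N).comp (DD G).subtype).codRestrict (DD (G ⧸ N))
    fun x => Ind.map_le (QuotientGroup.mk' N) ⟨x.1, x.2, rfl⟩) fun x hx => ?_
  have m : (x : G) ∈ N := (QuotientGroup.eq_one_iff _).1 (congrArg Subtype.val hx)
  exact mem_center_iff.2 fun y => Subtype.ext (Ind.le_cent h N pr y.2 x m).symm

end Cfsg.Agent.CS4
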