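import Cfsg.Agent.CS4.Defs
import Cfsg.Agent.CS4.Cent

set_option autoImplicit false

namespace Cfsg.Agent.CS4

open Subgroup

universe u

variable {G : Type u} [Group G] [Finite G] (C : Cfg G)

namespace Lift

theorem odd_of_pow {O : Subgroup G} (hO : Odd (Nat.card O)) {x : G} {n : ℕ} (hn : Odd n) (h : x ^ n ∈ O) :
    Odd (orderOf x) := by
  refine (hn.mul hO).of_dvd_nat (orderOf_dvd_of_pow_eq_one ?_)
  rw [pow_mul]
  exact congrArg Subtype.val (pow_card_eq_one' (x := (⟨_, h⟩ : O)))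

theorem pow_mem {L O : Subgroup G} (hn : L ≤ normalizer (O : Set G)) {c m : G} (hc : c ∈ L) (hm : m ∈ L)
    (h : m * c * m⁻¹ * c⁻¹ ∈ O) (n : ℕ) : ((c * m) ^ n)⁻¹ * (c ^ n * m ^ n) ∈ O := by
  have : (O.subgroupOf L).Normal := normal_subgroupOf_of_le_normalizer hn
  let π := QuotientGroup.mk' (O.subgroupOf L)
  have e : Commute (π ⟨m, hm⟩) (π ⟨c, hc⟩) := commutatorElement_eq_one_iff_commute.1 (by
    rw [← map_commutatorElement]
    exact (QuotientGroup.eq_one_iff _).2 h)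
  have e' : π ((⟨c, hc⟩ * ⟨m, hm⟩) ^ n) = π (⟨c, hc⟩ ^ n * ⟨m, hm⟩ ^ n) := by
    rw [map_pow, map_mul, map_mul, map_pow, map_pow, e.symm.mul_pow]
  exact mem_subgroupOf.1 (QuotientGroup.eq.1 e')

omit [Finite G] in
theorem fixed {O : Subgroup G} (hO : Odd (Nat.card O)) {u c : G} (hu : u ∈ normalizer (O : Set G))
    (h2 : IsPGroup 2 (zpowers u)) (hm : c⁻¹ * (u * c * u⁻¹) ∈ O) : ∃ d, u * d = d * u ∧ c⁻¹ * d ∈ O := by
  let K : Subgroup G :=
    { carrier := {g | g ∈ normalizer (O : Set G) ∧ c⁻¹ * (g * c * g⁻¹) ∈ O}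
      one_mem' := ⟨one_mem _, by simp⟩
      mul_mem' := fun {a b} ha hb => ⟨mul_mem ha.1 hb.1, by
        have := mul_mem ha.2 ((mem_normalizer_iff.1 ha.1 _).1 hb.2)
        convert this using 1; group⟩
      inv_mem' := fun {a} ha => ⟨inv_mem ha.1, by
        have := (mem_normalizer_iff.1 (inv_mem ha.1) _).1 (inv_mem ha.2)
        convert this using 1; group⟩ }
  have hK : zpowers u ≤ K := zpowers_le.2 ⟨hu, hm⟩
  let A : MulAction (zpowers u) O :=
    { smul := fun g o => ⟨c⁻¹ * (g * c * (g : G)⁻¹) * (g * o * (g : G)⁻¹),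
        mul_mem (hK g.2).2 ((mem_normalizer_iff.1 (hK g.2).1 _).1 o.2)⟩
      one_smul := fun o => Subtype.ext (by
        change c⁻¹ * (1 * c * (1 : G)⁻¹) * (1 * o * (1 : G)⁻¹) = o
        group)
      mul_smul := fun g h o => Subtype.ext (by
        change c⁻¹ * ((g * h : G) * c * (g * h : G)⁻¹) * ((g * h : G) * o * (g * h : G)⁻¹) =
          c⁻¹ * (g * c * (g : G)⁻¹) * (g * (c⁻¹ * (h * c * (h : G)⁻¹) * (h * o * (h : G)⁻¹)) * (g : G)⁻¹)
        group) }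
  have : Fact (Nat.Prime 2) := ⟨Nat.prime_two⟩
  obtain ⟨o, ho⟩ := h2.nonempty_fixed_point_of_prime_not_dvd_card O (fun e => Nat.not_even_iff_odd.2 hO (even_iff_two_dvd.2 e))
  have e : c⁻¹ * (u * c * u⁻¹) * (u * o * u⁻¹) = o := congrArg Subtype.val (ho ⟨u, mem_zpowers u⟩)
  refine ⟨c * o, ?_, by simp⟩
  rw [← mul_inv_eq_iff_eq_mul]
  nth_rewrite 2 [← e]
  group

end Lift

/-- notes/CS4.md, section Lift -/
theorem Cfg.lift (h : H4 G) {u c : G} (hu : u ∈ normalizer (C.L : Set G)) (h2 : IsPGroup 2 (zpowers u))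
    (hc : c ∈ C.L) (ho : Odd (orderOf c)) (hm : c⁻¹ * (u * c * u⁻¹) ∈ rad C.L) :
    ∃ d ∈ C.L, Odd (orderOf d) ∧ u * d = d * u ∧ c⁻¹ * d ∈ oc C.L := by
  have nO : C.L ≤ normalizer (oc C.L : Set G) := norm_oc le_normalizer
  have hm' : c⁻¹ * (u * c * u⁻¹) ∈ oc C.L := by
    refine C.odd_mem h hm (Lift.odd_of_pow (oc_odd C.L) ho ?_)
    have := Lift.pow_mem nO hc (rad_le _ hm) (C.comm_mem h hm hc) (orderOf c)
    rwa [mul_inv_cancel_left, conj_pow, pow_orderOf_eq_one, mul_one, mul_inv_cancel, inv_one, one_mul, one_mul] at this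
  obtain ⟨d, e1, e2⟩ := Lift.fixed (oc_odd C.L) (norm_oc (A := zpowers u) (zpowers_le.2 hu) (mem_zpowers u)) h2 hm'
  have hd : c⁻¹ * d ∈ C.L := oc_le _ e2
  refine ⟨d, by simpa using mul_mem hc hd, Lift.odd_of_pow (oc_odd C.L) ho ?_, e1, e2⟩
  have := Lift.pow_mem nO hc hd (by
    rw [mul_assoc, mul_assoc]
    refine mul_mem e2 ?_
    rw [← mul_assoc]
    exact (mem_normalizer_iff.1 (nO hc) _).1 (inv_mem e2)) (orderOf c)
  rw [mul_inv_cancel_left, pow_orderOf_eq_one, one_mul] at this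
  exact (inv_mem_iff).1 ((mul_mem_cancel_right (pow_mem e2 _)).1 this)

end Cfsg.Agent.CS4
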