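import Cfsg.Agent.CS4.Defs
import Cfsg.Agent.CS4.Lift

set_option autoImplicit false

namespace Cfsg.Agent.CS4

open Subgroup

universe u

variable {G : Type u} [Group G] [Finite G] (C : Cfg G)

/-- notes/CS4.md, section Main -/
theorem Cfg.main (h : H4 G) {u : G} (hu : u ∈ normalizer (C.L : Set G)) (h2 : IsPGroup 2 ↥(C.U ⊔ zpowers u))
    (hne : ¬ C.L ≤ centralizer ({u} : Set G)) {τ : MulAut C.S}
    (hτ : ∀ c d : C.L, (d : G) = u * c * u⁻¹ → τ (C.π c) = C.π d) : Nil2 (fix τ) ∧ τ ≠ 1 := by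
  set V : Subgroup G := C.U ⊔ zpowers u with hV
  have hLU : C.L ≤ centralizer (C.U : Set G) := C.sn.le
  have hVU : centralizer (V : Set G) ≤ centralizer (C.U : Set G) :=
    centralizer_le fun x hx => mem_sup_left hx
  have huV : u ∈ V := mem_sup_right (mem_zpowers u)
  set D : Subgroup G := C.L ⊓ centralizer (V : Set G) with hD
  have sn : H44.SN (centralizer (V : Set G)) D := C.sn.inf_of_le hVU
  have hDu : ∀ d ∈ D, u * d = d * u := fun d hd => hd.2 u huV
  have memD : ∀ d ∈ C.L, u * d = d * u → d ∈ D := fun d hd e => by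
    refine ⟨hd, ?_⟩
    have k : V ≤ centralizer ({d} : Set G) := sup_le
      (fun x hx => mem_centralizer_singleton_iff.2 (hLU hd x hx))
      (zpowers_le.2 (mem_centralizer_singleton_iff.2 e))
    exact fun x hx => mem_centralizer_singleton_iff.1 (k hx)
  have hlt : D < C.L := lt_of_le_of_ne inf_le_left fun e => hne fun d hd =>
    mem_centralizer_singleton_iff.2 (hDu d (e ▸ hd)).symm
  have hcard : Nat.card D < Nat.card C.L :=
    lt_of_le_of_ne (card_le_of_le hlt.le) fun e => hlt.ne (eq_of_le_of_card_ge hlt.le e.ge)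
  have hrad : D ≤ rad (centralizer (V : Set G)) := le_rad_of_sn sn (C.min V D h2 sn hcard)
  have hodd : ∀ d ∈ D, Odd (orderOf d) → d ∈ oc D := fun d hd ho =>
    mem_of_pp (H := D) (fun x hx hp => oc_inf_le (hrad.trans le_sup_left)
      ⟨key hp.odd (h x hp) h2 fun y hy => mem_centralizer_singleton_iff.2 (hx.2 y hy), hx⟩) hd ho
  have hN : Nil2 (fix τ) := by
    refine ⟨((oc D).subgroupOf C.L).map C.π, fun g => ⟨?_, fun ⟨hg, ho⟩ => ?_⟩⟩
    · rintro ⟨d, hd, rfl⟩
      have hd' : (d : G) ∈ oc D := hd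
      refine ⟨hτ d d ?_, Odd.of_dvd_nat ?_ (orderOf_map_dvd C.π d)⟩
      · rw [hDu _ (oc_le D hd'), mul_inv_cancel_right]
      · rw [← orderOf_coe]; exact odd_of_mem_oc hd'
    · obtain ⟨c, rfl, hc⟩ := exists_odd_map C.π C.π_surj ho
      have e := hτ c ⟨u * c * u⁻¹, (mem_normalizer_iff.1 hu c).1 c.2⟩ rfl
      rw [mem_fix.1 hg, C.π_eq_iff] at e
      obtain ⟨d, hd, d1, d2, d3⟩ := C.lift h hu (h2.to_le le_sup_right) c.2 (by rwa [orderOf_coe]) e
      exact ⟨⟨d, hd⟩, hodd d (memD d hd d2) d1, ((C.π_eq_iff c ⟨d, hd⟩).2 (oc_le_rad _ d3)).symm⟩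
  refine ⟨hN, fun e => C.nsol_S ?_⟩
  have hs := hN.solvable
  have ht : fix τ = ⊤ := eq_top_iff.2 fun g _ => by rw [mem_fix, e]; rfl
  rw [ht] at hs
  exact solvable_of_surjective (f := (⊤ : Subgroup C.S).subtype) fun g => ⟨⟨g, trivial⟩, rfl⟩

end Cfsg.Agent.CS4
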