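import Cfsg.Agent.CS4.Defs
import Cfsg.Agent.CS4.Main
import Cfsg.Agent.CS4.NilA
import Cfsg.Agent.CS4.Min

set_option autoImplicit false

namespace Cfsg.Agent.CS4

open Subgroup

universe u

variable {G : Type u} [Group G] [Finite G] (C : Cfg G)

/-- notes/CS4.md, section Inv -/
theorem Cfg.nil (h : H4 G) (t : C.S) (ht : orderOf t = 2) :
    HasNormalPComplement 2 ↥(centralizer ({t} : Set C.S)) := by
  obtain ⟨u, j, rfl, hj⟩ := exists_pp_map C.π C.π_surj (k := 1) Nat.prime_two ht
  have h1 : IsPGroup 2 (zpowers (u : G)) := IsPGroup.of_card (by rw [Nat.card_zpowers, orderOf_coe, hj])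
  have h2 : IsPGroup 2 ↥(C.U ⊔ zpowers (u : G)) := by
    rw [sup_comm]
    exact h1.to_sup_of_normal_right' C.two (zpowers_le.2 (centralizer_le_normalizer _ (C.sn.le u.2)))
  have h3 : ¬ C.L ≤ centralizer ({(u : G)} : Set G) := fun k => by
    have := C.simple
    have c : C.π u ∈ center C.S := mem_center_iff.2 fun g => by
      obtain ⟨g, rfl⟩ := C.π_surj g
      rw [← map_mul, ← map_mul]
      exact congrArg _ (Subtype.ext (mem_centralizer_singleton_iff.1 (k g.2)))
    rcases (inferInstance : (center C.S).Normal).eq_bot_or_eq_top with e | e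
    · rw [e, mem_bot] at c
      simp [c] at ht
    · exact C.nsol_S (Group.isSolvable_of_comm fun a b => mem_center_iff.1 (e.ge (mem_top b)) a)
  have := (C.main h (le_normalizer u.2) h2 h3 (τ := MulAut.conj (C.π u)) fun c d e => by
    rw [MulAut.conj_apply, ← map_inv, ← map_mul, ← map_mul]
    exact congrArg _ (Subtype.ext e.symm)).1
  rw [show fix (MulAut.conj (C.π u)) = centralizer {C.π u} from Subgroup.ext fun g => by
    rw [mem_fix, MulAut.conj_apply, mem_centralizer_singleton_iff, mul_inv_eq_iff_eq_mul, eq_comm]] at this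
  exact this.hasNormal

end Cfsg.Agent.CS4
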