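import Cfsg.Agent.CS4.Defs
import Cfsg.Agent.H84.SqFree
import Cfsg.Agent.H3.PResidual

set_option autoImplicit false

namespace Cfsg.Agent.CS4

open Subgroup

universe u

variable {G : Type u} [Group G] [Finite G]

namespace Kn

theorem sqf (h : SQ G) (F : Subgroup G) [F.Normal] [Group.IsNilpotent F] (x : F) :
    Squarefree (centralizer ({x} : Set F)).index := by
  refine Nat.squarefree_iff_prime_squarefree.2 fun p hp hd => ?_
  have := Fact.mk hp
  obtain ⟨P⟩ : Nonempty (Sylow p F) := inferInstance
  have : (P : Subgroup F).Normal := Sylow.normal_of_normalizerCondition Group.normalizerCondition_of_isNilpotent P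
  have := P.characteristic_of_normal this
  obtain ⟨a, b, -, -, ⟨k, hk⟩, hb, e⟩ := H3.exists_p_part (p := p) x
  obtain ⟨j, -, hj⟩ := (Nat.dvd_prime_pow hp).1 (orderOf_dvd_of_pow_eq_one hk)
  have h1 := H84.relIndex_dvd_prime_of_squarefree (P.isPGroup'.map F.subtype)
    (h a ⟨p, j, hp, (Subgroup.orderOf_coe a).trans hj⟩)
  rw [← relIndex_comap, ← inf_relIndex_right] at h1
  have le : (centralizer ({(a : G)} : Set G)).comap F.subtype ⊓ P ≤ centralizer ({x} : Set F) := fun g hg => by
    obtain ⟨n, hn⟩ := P.isPGroup' ⟨g, hg.2⟩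
    have c1 : Commute g a := Subtype.ext (mem_centralizer_singleton_iff.1 hg.1)
    have c2 : Commute g b :=
      H19.commute_of_coprime_pow (hb.symm.pow_left n) g b (congrArg Subtype.val hn) (pow_orderOf_eq_one b)
    exact mem_centralizer_singleton_iff.2 (e ▸ c1.mul_right c2)
  have h2 := hd.trans (index_dvd_of_le le)
  rw [← relIndex_mul_index inf_le_right] at h2
  exact P.not_dvd_index (Nat.dvd_of_mul_dvd_mul_left hp.pos (h2.trans (mul_dvd_mul_right h1 _)))

end Kn

/-- notes/CS4.md, section Kn -/
theorem SQ.fit (h : SQ G) : Squarefree (Nat.card (commutator ↥(fittingSubgroup G))) ∧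
    ⁅⁅fittingSubgroup G, fittingSubgroup G⁆, ⁅fittingSubgroup G, fittingSubgroup G⁆⁆ = ⊥ := by
  have := H44.fitting_characteristic (G := G)
  have := H44.fitting_isNilpotent (G := G)
  have k := Kn.sqf h (fittingSubgroup G)
  refine ⟨H84.squarefree_card_commutator k, ?_⟩
  have := H84.isCyclic_commutator_of_squarefree k
  rw [← map_subtype_commutator (fittingSubgroup G), ← map_commutator, commutator_eq_bot_iff_le_centralizer.2, Subgroup.map_bot]
  intro a ha b hb
  exact congrArg Subtype.val (mul_comm' (⟨b, hb⟩ : commutator ↥(fittingSubgroup G)) ⟨a, ha⟩)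

end Cfsg.Agent.CS4
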