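import Cfsg.Agent.CS4.Defs

set_option autoImplicit false

namespace Cfsg.Agent.CS4

open Subgroup
open scoped Pointwise

universe u

variable {S : Type*} [Group S] [Finite S]

/-- notes/CS4.md, section TI -/
theorem Star.equiv {T : Type*} [Group T] (e : S ≃* T) (h : Star S) : Star T := by
  rintro x x1 ⟨r, k, hr, h2, hx⟩
  obtain ⟨τ, t1, tt, tx, A, hA⟩ := h (e.symm x) (by simpa using x1) ⟨r, k, hr, h2, by rw [e.symm.orderOf_eq, hx]⟩
  refine ⟨MulAut.congr e τ, fun c => t1 ((MulAut.congr e).map_eq_one_iff.1 c), by rw [← map_mul, tt, map_one], ?_,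
    A.comap e.symm.toMonoidHom, fun g => ?_⟩
  · show e (τ (e.symm x)) = x
    rw [tx, e.apply_symm_apply]
  · rw [mem_comap, hA, mem_fix, mem_fix]
    show τ (e.symm g) = e.symm g ∧ Odd (orderOf (e.symm g)) ↔ e (τ (e.symm g)) = g ∧ _
    rw [e.symm.orderOf_eq, e.apply_eq_iff_symm_apply]

namespace TI

variable {p : ℕ} [Fact p.Prime]

theorem smul_smul (τ : MulAut S) (g : S) (Q : Sylow p S) : τ • (g • Q) = τ g • (τ • Q) := by
  rw [Sylow.smul_def, Sylow.smul_def, ← mul_smul, ← mul_smul]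
  congr 1
  ext a
  simp

theorem self {R : Sylow p S} {g : S} (hg : g ∈ (R : Subgroup S)) : g • R = R :=
  Sylow.smul_eq_iff_mem_normalizer.2 (le_normalizer hg)

variable (hti : ∀ Q R : Sylow p S, Q ≠ R → (Q : Subgroup S) ⊓ (R : Subgroup S) = ⊥)
include hti

theorem free {R Q : Sylow p S} (h : Q ≠ R) {g : S} (hg : g ∈ (R : Subgroup S)) (e : g • Q = Q) : g = 1 := by
  have h1 : g ∈ (R : Subgroup S) ⊓ normalizer (Q : Set S) := ⟨hg, Sylow.smul_eq_iff_mem_normalizer.1 e⟩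
  rw [R.isPGroup'.inf_normalizer_sylow Q, hti R Q h.symm] at h1
  exact mem_bot.1 h1

theorem reg {P : Sylow p S} (hn : Nat.card (Sylow p S) = Nat.card (P : Subgroup S) + 1) {R Q Q' : Sylow p S}
    (h : Q ≠ R) (h' : Q' ≠ R) : ∃ g ∈ (R : Subgroup S), g • Q = Q' := by
  classical
  let f : ↥(R : Subgroup S) → {T : Sylow p S // T ≠ R} := fun g => ⟨(g : S) • Q, fun e => h (by
    rw [← inv_smul_smul (g : S) Q, e, self (inv_mem g.2)])⟩
  have hi : Function.Injective f := fun a b e => by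
    have e1 : (a : S) • Q = (b : S) • Q := congrArg Subtype.val e
    have := free hti h (mul_mem (inv_mem b.2) a.2) (by rw [mul_smul, e1, inv_smul_smul])
    exact Subtype.ext (inv_mul_eq_one.1 this).symm
  have hc : Nat.card {T : Sylow p S // T ≠ R} = Nat.card (R : Subgroup S) := by
    haveI := Fintype.ofFinite (Sylow p S)
    rw [Nat.card_eq_fintype_card, Fintype.card_subtype_compl, Fintype.card_subtype_eq, ← Nat.card_eq_fintype_card, hn,
      P.card_eq_multiplicity, R.card_eq_multiplicity, Nat.add_sub_cancel]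
  obtain ⟨g, hg⟩ := ((Nat.bijective_iff_injective_and_card f).2 ⟨hi, hc.symm⟩).2 ⟨Q', h'⟩
  exact ⟨g, g.2, congrArg Subtype.val hg⟩

theorem fx {P : Sylow p S} (hn : Nat.card (Sylow p S) = Nat.card (P : Subgroup S) + 1) {τ : MulAut S}
    {R Q Q' : Sylow p S} (h : Q ≠ R) (h' : Q' ≠ R) (e1 : τ • R = R) (e2 : τ • Q = Q) (e3 : τ • Q' = Q') :
    ∃ g ∈ (R : Subgroup S), τ g = g ∧ g • Q = Q' := by
  obtain ⟨g, hg, e⟩ := reg hti hn h h'
  have h1 : τ g ∈ (R : Subgroup S) := by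
    rw [← e1, Sylow.pointwise_smul_def]
    exact smul_mem_pointwise_smul _ _ _ hg
  have h2 : τ g • Q = Q' := by rw [← e3, ← e, smul_smul, e2]
  have := free hti h (mul_mem (inv_mem hg) h1) (by rw [mul_smul, h2, ← e, inv_smul_smul])
  exact ⟨g, hg, (inv_mul_eq_one.1 this).symm, e⟩

end TI

open TI in
/-- notes/CS4.md, section TI -/
theorem ti_not_star {p : ℕ} [Fact p.Prime] (hp : p ≠ 2) (P : Sylow p S) (hP : (P : Subgroup S) ≠ ⊥)
    (hti : ∀ Q R : Sylow p S, Q ≠ R → (Q : Subgroup S) ⊓ (R : Subgroup S) = ⊥)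
    (hn : Nat.card (Sylow p S) = Nat.card (P : Subgroup S) + 1) : ¬ Star S := by
  classical
  intro hs
  have hpp : p.Prime := Fact.out
  haveI : Fact (Nat.Prime 2) := ⟨Nat.prime_two⟩
  have pp : ∀ (R : Sylow p S) (g : S), g ∈ (R : Subgroup S) → PP g := fun R g hg => by
    obtain ⟨k, hk⟩ := IsPGroup.iff_orderOf.1 R.isPGroup' ⟨g, hg⟩
    exact ⟨p, k, hpp, hp, by rw [← hk, ← orderOf_coe]⟩
  obtain ⟨⟨x, hx⟩, x1⟩ := ne_bot_iff_exists_ne_one.1 hP
  have x1' : x ≠ 1 := fun e => x1 (Subtype.ext e)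
  obtain ⟨τ, -, tt, tx, A, hA⟩ := hs x x1' (pp P x hx)
  have mA : ∀ (R : Sylow p S) (g : S), g ∈ (R : Subgroup S) → τ g = g → g ∈ A := fun R g hg e =>
    (hA g).2 ⟨e, (pp R g hg).odd⟩
  have tP : τ • P = P := by
    by_contra c
    have h1 : x ∈ ((τ • P : Sylow p S) : Subgroup S) := by
      rw [← tx, Sylow.pointwise_smul_def]
      exact smul_mem_pointwise_smul _ _ _ hx
    exact x1' (mem_bot.1 (hti _ _ c ▸ mem_inf.2 ⟨h1, hx⟩))
  haveI := Fintype.ofFinite (Sylow p S)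
  obtain ⟨Q, tQ, QP⟩ := Equiv.Perm.exists_fixed_point_of_prime' (p := 2) (n := 1) (α := Sylow p S) (by
    rw [← Nat.card_eq_fintype_card, hn, P.card_eq_multiplicity]
    exact ((hpp.odd_of_ne_two hp).pow.add_one).two_dvd) (σ := MulAction.toPermHom (MulAut S) (Sylow p S) τ)
    (by rw [pow_one, ← map_pow, pow_two, tt, map_one]) (a := P) tP
  replace tQ : τ • Q = Q := tQ
  obtain ⟨y, hy, ty, ey⟩ := fx hti hn QP.symm (Q' := x • Q) (fun e => x1' (free hti QP hx e)) tQ tP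
    (by rw [TI.smul_smul, tx, tQ])
  have bA : x⁻¹ * y ∈ A := mul_mem (inv_mem (mA P x hx tx)) (mA Q y hy ty)
  have bP : (x⁻¹ * y) • P = Q := by rw [mul_smul, ey, inv_smul_smul]
  generalize x⁻¹ * y = b at bA bP
  obtain ⟨g, hg, tg, eg⟩ := fx hti hn (Q := b • Q) (fun e => QP (MulAction.injective b (e.trans bP.symm))) QP.symm tQ
    (by rw [TI.smul_smul, show τ b = b from ((hA b).1 bA).1, tQ]) tP
  obtain ⟨k, hk⟩ := ((hA _).1 (mul_mem (mA Q g hg tg) bA)).2
  have a1 : (g * b) • P = Q := by rw [mul_smul, bP, self hg]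
  have a2 : (g * b) • Q = P := by rw [mul_smul, eg]
  generalize g * b = a at hk a1 a2
  have a3 : ∀ n : ℕ, a ^ (2 * n) • P = P := fun n => by
    induction n with
    | zero => simp
    | succ n ih => rw [Nat.mul_succ, pow_add, mul_smul, pow_two, mul_smul, a1, a2, ih]
  have a4 : a ^ (2 * k + 1) • P = Q := by rw [pow_succ', mul_smul, a3, a1]
  rw [← hk, pow_orderOf_eq_one, one_smul] at a4
  exact QP a4.symm

end Cfsg.Agent.CS4
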