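import Cfsg.Agent.CS4.Defs
import Cfsg.Agent.CS4.TI
import Cfsg.Agent.H9.SLBasic

set_option autoImplicit false

namespace Cfsg.Agent.CS4

open Subgroup

universe u

variable {S : Type*} [Group S] [Finite S]

/-- notes/CS4.md, section L24 -/
theorem sixty [IsSimpleGroup S] (h : Nat.card S = 60) : ¬ Star S := by
  have : Fact (Nat.Prime 5) := ⟨Nat.prime_five⟩
  have c5 : ∀ Q : Sylow 5 S, Nat.card (Q : Subgroup S) = 5 := fun Q => by
    rw [Q.card_eq_multiplicity, h, show (60 : ℕ) = 5 ^ 1 * 12 by norm_num,
      Nat.factorization_mul (by norm_num) (by norm_num), Nat.prime_five.factorization_pow]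
    simp [Nat.factorization_eq_zero_of_not_dvd (show ¬ 5 ∣ 12 by norm_num)]
  obtain ⟨P⟩ : Nonempty (Sylow 5 S) := inferInstance
  have hP : (P : Subgroup S) ≠ ⊥ := fun e => by simpa [e] using c5 P
  refine ti_not_star (by norm_num) P hP (fun Q R n => ?_) ?_
  · have d := card_dvd_of_le (inf_le_left : (Q : Subgroup S) ⊓ R ≤ Q)
    rw [c5] at d
    rcases (Nat.dvd_prime Nat.prime_five).1 d with e | e
    · exact card_eq_one.1 e
    · exact (n (Sylow.ext ((eq_of_le_of_card_ge inf_le_left (by rw [e, c5])).symm.trans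
        (eq_of_le_of_card_ge inf_le_right (by rw [e, c5]))))).elim
  have h1 := card_sylow_modEq_one 5 S
  have h2 := P.card_dvd_index
  have h3 := (P : Subgroup S).card_mul_index
  rw [c5, h] at h3
  rw [show (P : Subgroup S).index = 12 by omega] at h2
  have h4 : Nat.card (Sylow 5 S) ≠ 1 := fun e => by
    have := (Nat.card_eq_one_iff_unique.1 e).1
    rcases P.normal_of_subsingleton.eq_bot_or_eq_top with e | e
    · exact hP e
    · have := c5 P
      rw [e, card_top, h] at this
      omega
  have h5 := Nat.le_of_dvd (by norm_num) h2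
  rw [c5]
  unfold Nat.ModEq at h1
  generalize Nat.card (Sylow 5 S) = n at *
  interval_cases n <;> omega

/-- notes/CS4.md, section L24 -/
theorem l2_four [IsSimpleGroup S] {F : Type} [Field F] [Fintype F] (h : Fintype.card F = 4)
    (e : S ≃* Matrix.ProjectiveSpecialLinearGroup (Fin 2) F) : ¬ Star S := by
  have k := H9.gcd_mul_card_psl_two (F := F)
  rw [h, show Nat.gcd 2 (4 - 1) = 1 by norm_num, one_mul, ← Nat.card_congr e.toEquiv] at k
  exact sixty k

end Cfsg.Agent.CS4
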