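import Cfsg.Agent.CS4.Defs
import Cfsg.Agent.CS4.CIT

set_option autoImplicit false

namespace Cfsg.Agent.CS4

open Subgroup

universe u

variable {F : Type} [Field F] [Fintype F]

namespace L2e

open Matrix

variable [DecidableEq F]

omit [Fintype F] in
theorem det_eq (a : SpecialLinearGroup (Fin 2) F) : a 0 0 * a 1 1 - a 0 1 * a 1 0 = 1 := by
  have := a.det_coe
  rwa [Matrix.det_fin_two] at this

omit [Fintype F] in
theorem mul_ap (a b : SpecialLinearGroup (Fin 2) F) (i j : Fin 2) :
    (a * b) i j = a i 0 * b 0 j + a i 1 * b 1 j := by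
  show (a.1 * b.1) i j = _
  rw [Matrix.mul_apply, Fin.sum_univ_two]

omit [Fintype F] in
theorem sq_of_tr (h2 : (2 : F) = 0) {a : SpecialLinearGroup (Fin 2) F} (h : a 0 0 + a 1 1 = 0) : a * a = 1 := by
  have d := det_eq a
  ext i j
  rw [mul_ap]
  fin_cases i <;> fin_cases j
  · show a 0 0 * a 0 0 + a 0 1 * a 1 0 = 1
    linear_combination d + a 0 0 * h + (a 0 1 * a 1 0 - a 0 0 * a 1 1) * h2
  · show a 0 0 * a 0 1 + a 0 1 * a 1 1 = 0
    linear_combination a 0 1 * h
  · show a 1 0 * a 0 0 + a 1 1 * a 1 0 = 0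
    linear_combination a 1 0 * h
  · show a 1 0 * a 0 1 + a 1 1 * a 1 1 = 1
    linear_combination d + a 1 1 * h + (a 0 1 * a 1 0 - a 0 0 * a 1 1) * h2

omit [Fintype F] in
theorem tr_of_pow (h2 : (2 : F) = 0) (k : ℕ) : ∀ a : SpecialLinearGroup (Fin 2) F, a ^ 2 ^ k = 1 → a 0 0 + a 1 1 = 0 := by
  induction k with
  | zero =>
    intro a h
    rw [pow_zero, pow_one] at h
    subst h
    show (1 : F) + 1 = 0
    linear_combination h2
  | succ k ih =>
    intro a h
    have := ih (a * a) (by rw [← pow_two, ← pow_mul, ← pow_succ', h])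
    rw [mul_ap, mul_ap] at this
    refine pow_eq_zero_iff (n := 2) two_ne_zero |>.1 ?_
    linear_combination this + (a 0 0 * a 1 1 - a 0 1 * a 1 0) * h2

omit [Fintype F] in
theorem sq_of_comm (h2 : (2 : F) = 0) {t x : SpecialLinearGroup (Fin 2) F} (tt : t * t = 1) (t1 : t ≠ 1)
    (c : t * x = x * t) : x * x = 1 := by
  have h := tr_of_pow h2 1 t (by rw [pow_one, pow_two, tt])
  refine sq_of_tr h2 ?_
  by_contra n
  have e1 : (t * x) 0 1 = (x * t) 0 1 := by rw [c]
  have e2 : (t * x) 1 0 = (x * t) 1 0 := by rw [c]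
  rw [mul_ap, mul_ap] at e1 e2
  have b : t 0 1 = 0 := (mul_eq_zero.1 (show t 0 1 * (x 0 0 + x 1 1) = 0 by
    linear_combination e1 - x 0 1 * h + (x 0 0 * t 0 1 + x 0 1 * t 1 1) * h2)).resolve_right n
  have c' : t 1 0 = 0 := (mul_eq_zero.1 (show t 1 0 * (x 0 0 + x 1 1) = 0 by
    linear_combination e2 - x 1 0 * h + (x 1 1 * t 1 0 + x 1 0 * t 0 0) * h2)).resolve_right n
  have d := det_eq t
  have a1 : t 0 0 = 1 := by
    have : (t 0 0 - 1) ^ 2 = 0 := by
      linear_combination d + t 0 0 * h + t 1 0 * b + (1 - t 0 0 - t 0 0 * t 1 1) * h2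
    exact sub_eq_zero.1 (pow_eq_zero_iff two_ne_zero |>.1 this)
  apply t1
  ext i j
  fin_cases i <;> fin_cases j
  · exact a1
  · exact b
  · exact c'
  · show t 1 1 = 1
    linear_combination h - a1 - h2

omit [Fintype F] in
theorem center_eq (h2 : (2 : F) = 0) : center (SpecialLinearGroup (Fin 2) F) = ⊥ := by
  rw [eq_bot_iff]
  intro a ha
  obtain ⟨r, hr, e⟩ := Matrix.SpecialLinearGroup.mem_center_iff.1 ha
  rw [Fintype.card_fin] at hr
  have : r = 1 := by
    have : (r - 1) ^ 2 = 0 := by linear_combination hr + (1 - r) * h2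
    exact sub_eq_zero.1 (pow_eq_zero_iff two_ne_zero |>.1 this)
  subst this
  exact mem_bot.2 (Subtype.ext (by rw [← e]; simp))

/-- the unitriangular matrices -/
def uni (F : Type) [Field F] [DecidableEq F] : Multiplicative F →* SpecialLinearGroup (Fin 2) F :=
  MonoidHom.mk' (fun b => ⟨!![1, b.toAdd; 0, 1], by simp [Matrix.det_fin_two]⟩) fun a b => by
    ext i j
    refine Eq.trans ?_ (mul_ap _ _ i j).symm
    fin_cases i <;> fin_cases j <;> simp [add_comm]

omit [Fintype F] in
theorem uni_inj : Function.Injective (uni F) := fun a b e => by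
  have : uni F a 0 1 = uni F b 0 1 := by rw [e]
  exact this

theorem main (h2 : (2 : F) = 0) (h8 : 8 ≤ Fintype.card F) {S : Type} [Group S]
    (e : SpecialLinearGroup (Fin 2) F ≃* S) : ¬ Star S := by
  have : Finite S := Finite.of_equiv _ e.toEquiv
  have hU : IsPGroup 2 (e.toMonoidHom.comp (uni F)).range := by
    rintro ⟨_, b, rfl⟩
    refine ⟨1, Subtype.ext ?_⟩
    show (e (uni F b)) ^ 2 ^ 1 = 1
    rw [pow_one, pow_two, ← map_mul, sq_of_tr h2 (by show (1 : F) + 1 = 0; linear_combination h2), map_one]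
  obtain ⟨P, hP⟩ := hU.exists_le_sylow
  refine cit_not_star (fun t x tt t1 c o => ?_) P P (fun x => ⟨fun hx => ⟨hx, ?_⟩, fun hx => hx.1⟩) ?_ ?_
  · obtain ⟨t, rfl⟩ := e.surjective t
    obtain ⟨x, rfl⟩ := e.surjective x
    have := sq_of_comm h2 (t := t) (x := x) (e.injective (by rw [map_mul, tt, map_one]))
      (fun k => t1 (by rw [k, map_one])) (e.injective (by rw [map_mul, map_mul, c]))
    have d : orderOf (e x) ∣ 2 := orderOf_dvd_of_pow_eq_one (by rw [pow_two, ← map_mul, this, map_one])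
    rcases (Nat.dvd_prime Nat.prime_two).1 d with k | k
    · exact orderOf_eq_one_iff.1 k
    · rw [k] at o
      exact absurd o (by decide)
  · obtain ⟨k, hk⟩ := P.isPGroup' ⟨x, hx⟩
    obtain ⟨x, rfl⟩ := e.surjective x
    have hk : e x ^ 2 ^ k = 1 := congrArg Subtype.val hk
    rw [← map_mul, sq_of_tr h2 (tr_of_pow h2 k x (e.injective (by rw [map_pow, hk, map_one]))), map_one]
  · refine le_trans ?_ (card_le_of_le hP)
    rw [← Nat.card_congr (MonoidHom.ofInjective (f := e.toMonoidHom.comp (uni F)) (e.injective.comp uni_inj)).toEquiv,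
      Nat.card_congr Multiplicative.toAdd, Nat.card_eq_fintype_card]
    exact h8
  · let a : SpecialLinearGroup (Fin 2) F := ⟨!![0, 1; -1, -1], by simp [Matrix.det_fin_two]⟩
    have a1 : a ≠ 1 := fun k => by
      have : a 0 0 = (1 : SpecialLinearGroup (Fin 2) F) 0 0 := by rw [k]
      exact zero_ne_one this
    have a3 : a ^ 3 = 1 := by
      rw [pow_succ, pow_two]
      ext i j
      simp only [mul_ap]
      fin_cases i <;> fin_cases j <;> simp [a]
    have : Fact (Nat.Prime 3) := ⟨Nat.prime_three⟩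
    refine ⟨e a, fun k => a1 (e.injective (by rw [k, map_one])), 3, 1, Nat.prime_three, by decide, ?_⟩
    rw [MulEquiv.orderOf_eq, pow_one]
    exact orderOf_eq_prime a3 a1

end L2e

/-- notes/CS4.md, section L2e -/
theorem l2_even (h : Even (Fintype.card F)) (h8 : 8 ≤ Fintype.card F) :
    ¬ Star (Matrix.ProjectiveSpecialLinearGroup (Fin 2) F) := by
  classical
  have h2 : (2 : F) = 0 := by
    have := FiniteField.even_card_iff_char_two.2 (Nat.even_iff.1 h)
    have k := ringChar.spec F 2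
    rw [this] at k
    exact_mod_cast k.2 dvd_rfl
  exact L2e.main h2 h8 ((QuotientGroup.quotientMulEquivOfEq (L2e.center_eq h2)).trans QuotientGroup.quotientBot).symm

end Cfsg.Agent.CS4
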