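import Cfsg.Agent.CS4.Defs
import Cfsg.Agent.CS4.TI
import Cfsg.Agent.H69.PSLRankOne

set_option autoImplicit false

namespace Cfsg.Agent.CS4

open Subgroup

universe u

variable {F : Type} [Field F] [Fintype F]

open H69 in
theorem l2o_low {A : SL2 F} {x : PSL2 F} (hx : x ∈ (upHom F).range) (h1 : x ≠ 1)
    (h : pr F A * x * (pr F A)⁻¹ ∈ (upHom F).range) : A.1 1 0 = 0 := by
  obtain ⟨c, rfl⟩ := mem_upHom.1 hx
  obtain ⟨d, hd⟩ := mem_upHom.1 h
  rw [← map_inv, ← map_mul, ← map_mul] at hd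
  have h2 := pr_eq_lower hd (up10 d)
  simp only [sl2_mul_apply, sl2_inv00, sl2_inv10, up00, up01, up10, up11] at h2
  have h3 : c * A.1 1 0 ^ 2 = 0 := by linear_combination -h2
  exact pow_eq_zero_iff two_ne_zero |>.1 ((mul_eq_zero.1 h3).resolve_left fun e => h1 (by rw [e, up_zero, map_one]))

open H69 in
theorem l2o_norm {A : SL2 F} (h : A.1 1 0 = 0) : pr F A ∈ normalizer ((upHom F).range : Set (PSL2 F)) := by
  refine mem_normalizer_fintype fun x hx => ?_
  obtain ⟨c, rfl⟩ := mem_upHom.1 hx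
  refine mem_upHom.2 ⟨A.1 0 0 ^ 2 * c, ?_⟩
  rw [← map_inv, ← map_mul, ← map_mul]
  have h1 := sl2_det A
  rw [h] at h1
  congr 1
  apply sl2_ext <;>
    simp only [sl2_mul_apply, sl2_inv00, sl2_inv01, sl2_inv10, sl2_inv11, up00, up01, up10, up11, h]
  · linear_combination h1
  · ring
  · ring
  · linear_combination h1

open H69 in
/-- notes/CS4.md, section L2o -/
theorem l2_odd (h : Odd (Fintype.card F)) : ¬ Star (Matrix.ProjectiveSpecialLinearGroup (Fin 2) F) := by
  obtain ⟨p, hc⟩ := CharP.exists F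
  obtain ⟨n, hp, hF⟩ := FiniteField.card F p
  haveI := Fact.mk hp
  have p2 : p ≠ 2 := by
    rintro rfl
    rw [hF] at h
    exact (Nat.not_even_iff_odd.2 h) ((Nat.even_pow' n.ne_zero).2 even_two)
  obtain ⟨S⟩ : Nonempty (Sylow p (PSL2 F)) := inferInstance
  obtain ⟨φ, hφ, -, hS⟩ := exists_normalized_psl S n.2 hF (MonoidHom.id _) Function.surjective_id
  obtain ⟨P, hP⟩ : ∃ P : Sylow p (PSL2 F), (P : Subgroup (PSL2 F)) = (upHom F).range := ⟨S.mapSurjective hφ, hS⟩
  have u1 : pr F (up 1) ∈ (upHom F).range := mem_upHom.2 ⟨1, rfl⟩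
  have u2 : pr F (up (1 : F)) ≠ 1 := fun e =>
    one_ne_zero (pr_up_injective (e.trans (by simp only [up_zero, map_one]) : pr F (up 1) = pr F (up 0)))
  have k1 : ∀ A B : SL2 F, (B⁻¹ * A).1 1 0 = 0 → pr F A • P = pr F B • P := fun A B e => by
    rw [← inv_smul_eq_iff, ← mul_smul, ← map_inv, ← map_mul, Sylow.smul_eq_iff_mem_normalizer]
    have := l2o_norm e
    rwa [← hP] at this
  have k2 : ∀ A B : SL2 F, pr F A • P = pr F B • P → (B⁻¹ * A).1 1 0 = 0 := fun A B e => by
    rw [← inv_smul_eq_iff, ← mul_smul, ← map_inv, ← map_mul, Sylow.smul_eq_iff_mem_normalizer] at e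
    refine l2o_low u1 u2 ?_
    rw [← hP] at u1 ⊢
    exact (mem_normalizer_iff.1 e _).1 u1
  have k3 : ∀ Q : Sylow p (PSL2 F), ∃ A, Q = pr F A • P := fun Q => by
    obtain ⟨g, rfl⟩ := MulAction.exists_smul_eq (PSL2 F) P Q
    obtain ⟨A, rfl⟩ := pr_surjective g
    exact ⟨A, rfl⟩
  have k4 : ∀ (g x : PSL2 F), x ∈ ((g • P : Sylow p (PSL2 F)) : Subgroup (PSL2 F)) →
      g⁻¹ * x * g ∈ (upHom F).range := fun g x hx => by
    rw [Sylow.coe_subgroup_smul, mem_pointwise_smul_iff_inv_smul_mem, hP] at hx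
    simpa using hx
  refine ti_not_star p2 P (fun e => u2 (mem_bot.1 (e ▸ hP ▸ u1))) (fun Q R hQR => ?_) ?_
  · obtain ⟨A, rfl⟩ := k3 Q
    obtain ⟨B, rfl⟩ := k3 R
    refine eq_bot_iff.2 fun x hx => mem_bot.2 (by_contra fun x1 => hQR (k1 _ _ ?_))
    refine l2o_low (k4 _ _ hx.1) (fun e => x1 (by simpa [mul_assoc, inv_mul_eq_one] using e)) ?_
    convert k4 _ _ hx.2 using 1
    rw [map_mul, map_inv]
    group
  · rw [hP, card_upHom, ← Fintype.card_option, ← Nat.card_eq_fintype_card]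
    refine (Nat.card_congr (Equiv.ofBijective
      (fun o : Option F => pr F (o.elim 1 fun c => up c * wn 1 one_ne_zero) • P) ⟨fun a b e => ?_, fun Q => ?_⟩)).symm
    · have := k2 _ _ e
      rcases a with _ | a <;> rcases b with _ | b
      · rfl
      · simp only [Option.elim, mul_one, sl2_mul_apply, sl2_inv10, up10, up11, wn00, wn10] at this
        simp at this
      · simp [sl2_mul_apply, up10, up11, wn00, wn10] at this
      · simp only [Option.elim, sl2_mul_apply, sl2_inv10, sl2_inv11, up00, up01, up10, up11, wn00, wn10] at this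
        congr 1
        rw [inv_one] at this
        linear_combination -this
    · obtain ⟨A, rfl⟩ := k3 Q
      by_cases e : A.1 1 0 = 0
      · exact ⟨none, (k1 _ _ (by simpa using e)).symm⟩
      · refine ⟨some (A.1 0 0 / A.1 1 0), (k1 _ _ ?_).symm⟩
        simp only [Option.elim, sl2_mul_apply, sl2_inv10, sl2_inv11, up00, up01, up10, up11, wn00, wn10]
        field_simp
        ring

end Cfsg.Agent.CS4
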