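import Cfsg.Agent.CS4.Defs
import Cfsg.Agent.CS4.Frat
import Cfsg.Agent.S0243

set_option autoImplicit false

namespace Cfsg.Agent.CS4

open Subgroup

universe u

variable {F : Type} [Field F] [Fintype F]

namespace L34

open Matrix

/-- the companion matrix of `t³ + t + 1` in characteristic two -/
def X (F : Type) [Field F] : Matrix.SpecialLinearGroup (Fin 3) F :=
  ⟨!![0, 0, 1; 1, 0, 1; 0, 1, 0], by simp [det_fin_three]⟩

theorem X_val : (X F : Matrix (Fin 3) (Fin 3) F) = !![0, 0, 1; 1, 0, 1; 0, 1, 0] := rfl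

theorem X6 (h2 : (2 : F) = 0) : ((X F ^ 6 : Matrix.SpecialLinearGroup (Fin 3) F) : Matrix (Fin 3) (Fin 3) F) =
    !![1, 1, 0; 0, 0, 1; 1, 0, 0] := by
  rw [Matrix.SpecialLinearGroup.coe_pow, X_val]
  ext i j
  fin_cases i <;> fin_cases j <;> simp [pow_succ] <;> first | linear_combination h2 | linear_combination 2 * h2

theorem X7 (h2 : (2 : F) = 0) : X F ^ 7 = 1 := by
  apply Subtype.ext
  rw [pow_succ, Matrix.SpecialLinearGroup.coe_mul, X6 h2, X_val]
  ext i j
  fin_cases i <;> fin_cases j <;> simp <;> linear_combination h2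

theorem X_nc : X F ∉ center (Matrix.SpecialLinearGroup (Fin 3) F) := fun h => by
  obtain ⟨r, -, e⟩ := Matrix.SpecialLinearGroup.mem_center_iff.1 h
  have := congrFun (congrFun e 1) 0
  simp [X_val] at this

theorem cube {Z : Matrix.SpecialLinearGroup (Fin 3) F} (h : Z ∈ center (Matrix.SpecialLinearGroup (Fin 3) F)) : Z ^ 3 = 1 := by
  obtain ⟨r, hr, e⟩ := Matrix.SpecialLinearGroup.mem_center_iff.1 h
  apply Subtype.ext
  rw [Matrix.SpecialLinearGroup.coe_pow, ← e, ← map_pow]
  rw [Fintype.card_fin] at hr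
  rw [hr, map_one]
  rfl

theorem cen (h2 : (2 : F) = 0) {W : Matrix.SpecialLinearGroup (Fin 3) F} (h : W * X F = X F * W)
    (hw : W * W ∈ center (Matrix.SpecialLinearGroup (Fin 3) F)) : W ∈ center (Matrix.SpecialLinearGroup (Fin 3) F) := by
  obtain ⟨r, -, e⟩ := Matrix.SpecialLinearGroup.mem_center_iff.1 hw
  have k : (W : Matrix (Fin 3) (Fin 3) F) * X F = X F * W := congrArg Subtype.val h
  rw [Matrix.SpecialLinearGroup.coe_mul] at e
  have d := W.2
  generalize hA : (W : Matrix (Fin 3) (Fin 3) F) = A at k e d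
  have k' := fun i j => congrFun (congrFun k i) j
  have k00 := k' 0 0
  have k10 := k' 1 0
  have k20 := k' 2 0
  have k01 := k' 0 1
  have k11 := k' 1 1
  have k21 := k' 2 1
  have e1 := congrFun (congrFun e 1) 0
  have e2 := congrFun (congrFun e 2) 0
  simp [X_val, Matrix.mul_apply, Fin.sum_univ_three] at k00 k10 k20 k01 k11 k21 e1 e2
  have c0 : A 2 0 = 0 := by
    refine pow_eq_zero_iff (two_ne_zero (α := ℕ)) |>.1 ?_
    rw [k11, k00, k20, k10] at e1
    linear_combination -e1 - (A 1 0 * A 0 0 + A 2 0 * A 1 0) * h2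
  have b0 : A 1 0 = 0 := by
    refine pow_eq_zero_iff (two_ne_zero (α := ℕ)) |>.1 ?_
    rw [k20, c0] at e2
    linear_combination -e2
  have hs : scalar (Fin 3) (A 0 0) = A := by
    ext i j
    fin_cases i <;> fin_cases j <;> simp [k00, k10, k20, k01, k11, k21, b0, c0]
  refine Matrix.SpecialLinearGroup.mem_center_iff.2 ⟨A 0 0, ?_, hA ▸ hs⟩
  rw [← hs] at d
  simpa using d

theorem conj_case (h2 : (2 : F) = 0) {W : Matrix.SpecialLinearGroup (Fin 3) F} {k : ℕ} (hk : k < 7)
    (h : (W * X F * W⁻¹)⁻¹ * X F ^ k ∈ center (Matrix.SpecialLinearGroup (Fin 3) F))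
    (hw : W * W ∈ center (Matrix.SpecialLinearGroup (Fin 3) F)) : W ∈ center (Matrix.SpecialLinearGroup (Fin 3) F) := by
  haveI : Fact (Nat.Prime 7) := ⟨by norm_num⟩
  have o : orderOf (X F) = 7 := orderOf_eq_prime (X7 h2) fun e => X_nc (e ▸ one_mem _)
  set Z := (W * X F * W⁻¹)⁻¹ * X F ^ k with hZ
  have e : X F ^ k = W * X F * W⁻¹ * Z := by rw [hZ]; group
  have z7 : Z ^ 7 = 1 := by
    have c : Commute (W * X F * W⁻¹) Z := mem_center_iff.1 h _
    have : (X F ^ k) ^ 7 = 1 := by rw [← pow_mul, mul_comm, pow_mul, X7 h2, one_pow]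
    rw [e, c.mul_pow, conj_pow, X7 h2] at this
    simpa using this
  have z1 : Z = 1 := by
    have : Z ^ 7 = (Z ^ 3) ^ 2 * Z := by group
    rw [z7, cube h] at this
    simpa using this.symm
  rw [z1, mul_one] at e
  have e2 : X F ^ (k * k) = X F ^ 1 := by
    rw [pow_mul, pow_one]
    nth_rewrite 1 [e]
    rw [conj_pow, e]
    have := mem_center_iff.1 hw (X F)
    calc W * (W * X F * W⁻¹) * W⁻¹ = (W * W * X F) * (W * W)⁻¹ := by group
      _ = X F := by rw [← this]; group
  rw [pow_eq_pow_iff_modEq, o] at e2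
  have : k = 1 ∨ k = 6 := by
    interval_cases k <;> simp_all [Nat.ModEq]
  rcases this with rfl | rfl
  · refine cen h2 ?_ hw
    rw [pow_one] at e
    nth_rewrite 2 [e]
    group
  · exfalso
    have t : trace ((X F ^ 6 : Matrix.SpecialLinearGroup (Fin 3) F) : Matrix (Fin 3) (Fin 3) F) = trace (X F : Matrix (Fin 3) (Fin 3) F) := by
      rw [e, Matrix.SpecialLinearGroup.coe_mul, trace_mul_comm, Matrix.SpecialLinearGroup.coe_mul, ← mul_assoc,
        ← Matrix.SpecialLinearGroup.coe_mul, inv_mul_cancel]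
      simp
    rw [X6 h2, X_val] at t
    simp [trace, Fin.sum_univ_three] at t

theorem card_psl (h : Fintype.card F = 4) : Nat.card (Matrix.ProjectiveSpecialLinearGroup (Fin 3) F) = 20160 := by
  have hc := S0243.result h 3 (by norm_num)
  generalize Nat.card (Matrix.ProjectiveSpecialLinearGroup (Fin 3) F) = n at hc ⊢
  simp [Fin.prod_univ_three] at hc
  omega

end L34

open L34 in
/-- notes/CS4.md, section L34 -/
theorem l34_not_star (h : Fintype.card F = 4) : ¬ Star (Matrix.ProjectiveSpecialLinearGroup (Fin 3) F) := by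
  classical
  have h2 : (2 : F) = 0 := by
    have := FiniteField.cast_card_eq_zero F
    rw [h] at this
    refine pow_eq_zero_iff (two_ne_zero (α := ℕ)) |>.1 ?_
    push_cast at this
    linear_combination this
  have hc : Nat.card (Matrix.ProjectiveSpecialLinearGroup (Fin 3) F) = 20160 := by
    exact card_psl h
  haveI : Finite (Matrix.ProjectiveSpecialLinearGroup (Fin 3) F) := Nat.finite_of_card_ne_zero (by omega)
  haveI : Fact (Nat.Prime 7) := ⟨by norm_num⟩
  have o : orderOf (QuotientGroup.mk (X F) : Matrix.ProjectiveSpecialLinearGroup (Fin 3) F) = 7 :=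
    orderOf_eq_prime (by rw [← QuotientGroup.mk_pow, X7 h2]; rfl) fun e => X_nc ((QuotientGroup.eq_one_iff _).1 e)
  refine frat_not_star (r := 7) (by norm_num) (by norm_num) o (by rw [hc]; norm_num) (by rw [hc]; norm_num)
    fun w hw hn => ?_
  obtain ⟨W, rfl⟩ := QuotientGroup.mk_surjective w
  have m := (mem_normalizer_iff.1 hn _).1 (mem_zpowers _)
  rw [mem_zpowers_iff_mem_range_orderOf, Finset.mem_image] at m
  obtain ⟨k, hk, e⟩ := m
  rw [Finset.mem_range, o] at hk
  refine (QuotientGroup.eq_one_iff _).2 (conj_case h2 hk (QuotientGroup.eq.1 ?_) ((QuotientGroup.eq_one_iff _).1 hw))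
  rw [QuotientGroup.mk_pow, e]
  rfl

end Cfsg.Agent.CS4
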