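import Cfsg.Agent.CS4.Defs
import Cfsg.Agent.CS4.NilA
import Cfsg.Agent.H22.PSolvable
import Cfsg.Agent.H19.Basic
import Cfsg.Agent.H18.SmallTools
import Cfsg.Agent.H3.PComplement

set_option autoImplicit false

namespace Cfsg.Agent.CS4

open Subgroup

universe u

variable {G : Type u} [Group G] [Finite G]

/-- notes/CS4.md, section PNil -/
theorem pnil [Group.IsSolvable G] (p : ℕ) [Fact p.Prime] (hmin : ∀ r : ℕ, r.Prime → r ∣ Nat.card G → p ≤ r)
    (h : ∀ x : G, (∃ r k : ℕ, r.Prime ∧ r ≠ p ∧ orderOf x = r ^ k) →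
      ¬ p ^ 2 ∣ (centralizer ({x} : Set G)).index) : HasNormalPComplement p G := by
  have hp : p.Prime := Fact.out
  refine H3.hasNormalPComplement_of_normal (pPrimeCore p G) H22.coprime_card_pPrimeCore (IsPGroup.of_card
    (Nat.eq_prime_pow_of_unique_prime_dvd Nat.card_pos.ne' fun {r} hr hd => by_contra fun hrp => ?_))
  have := Fact.mk hr
  obtain ⟨y, hy⟩ := exists_prime_orderOf_dvd_card' r hd
  obtain ⟨x, j, rfl, hx⟩ := exists_pp_map _ (QuotientGroup.mk'_surjective (pPrimeCore p G)) hr (hy.trans (pow_one r).symm)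
  have h1 := fun e => h x ⟨r, j, hr, hrp, hx⟩ (Dvd.dvd.trans e
    (index_map_dvd _ (QuotientGroup.mk'_surjective (pPrimeCore p G)) x))
  have h2 := H22.IsPSolvable.centralizer_pCore_le H22.isPSolvable_of_isSolvable
    (H22.pPrimeCore_quotient_pPrimeCore (p := p) (G := G))
  have h3 := hmin r hr (hd.trans (card_quotient_dvd_card _))
  generalize QuotientGroup.mk' (pPrimeCore p G) x = y at hy h1
  have hQ : IsPGroup p (pCore p (G ⧸ pPrimeCore p G)) := H22.isPGroup_pCore
  have hn : (pCore p (G ⧸ pPrimeCore p G)).Normal := inferInstance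
  generalize pCore p (G ⧸ pPrimeCore p G) = Q at hQ hn h2
  obtain ⟨k, hk⟩ := hQ.index ((centralizer {y}).subgroupOf Q)
  have h4 := H19.relIndex_dvd_index_of_normal_right (centralizer {y}) Q
  rw [relIndex, hk] at h4
  have cp : r.Coprime p := (Nat.coprime_primes hr hp).2 hrp
  match k, hk, h4 with
  | 0, hk, _ =>
    have := h2 (le_centralizer_iff.1 (by
      rw [zpowers_eq_closure, centralizer_closure]
      exact subgroupOf_eq_top.1 (index_eq_one.1 hk)) (mem_zpowers y))
    obtain ⟨n, e⟩ := IsPGroup.iff_orderOf.1 hQ ⟨y, this⟩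
    rw [← orderOf_coe, hy] at e
    exact hr.one_lt.ne' (Nat.eq_one_of_dvd_coprimes (cp.pow_right n) dvd_rfl e.dvd)
  | 1, hk, _ =>
    have e1 := H18.modEq_cent (k := 1) hr Q (x := y) (by rw [pow_one, ← hy, pow_orderOf_eq_one])
      (by rw [normalizer_eq_top]; trivial)
    have e2 := ((centralizer {y}).subgroupOf Q).card_mul_index
    rw [hk, pow_one, ← inf_subgroupOf_left, Nat.card_congr (subgroupOfEquivOfLe inf_le_left).toEquiv] at e2
    obtain ⟨n, e3⟩ := IsPGroup.iff_card.1 (hQ.to_inf_left (K := centralizer {y}))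
    rw [← e2, e3] at e1
    have e4 := Nat.ModEq.cancel_left_of_coprime (cp.pow_right n) (e1.trans (by rw [mul_one]) : _ ≡ p ^ n * 1 [MOD r])
    have := Nat.le_of_dvd (by have := hp.two_le; omega) ((Nat.modEq_iff_dvd' hp.one_le).1 e4.symm)
    have := hp.two_le
    omega
  | k + 2, _, h4 => exact h1 ((pow_dvd_pow p (by omega)).trans h4)

end Cfsg.Agent.CS4
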