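import Cfsg.Agent.CS4.Defs
import Cfsg.Agent.CS4.Main
import Cfsg.Agent.H42.SylIn

set_option autoImplicit false

namespace Cfsg.Agent.CS4

open Subgroup

universe u

variable {G : Type u} [Group G] [Finite G] (C : Cfg G)

namespace St

omit [Finite G] in
theorem last_pow {U : Subgroup G} (k : ℕ) : ∀ w : G, w ∉ U → w ^ 2 ^ k ∈ U →
    ∃ i : ℕ, w ^ i ∉ U ∧ w ^ i * w ^ i ∈ U := by
  induction k with
  | zero => exact fun w h1 h2 => absurd (by simpa using h2) h1
  | succ k ih =>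
    intro w h1 h2
    by_cases e : w ^ 2 ^ k ∈ U
    · exact ih w h1 e
    · exact ⟨2 ^ k, e, by rwa [← pow_add, ← mul_two, ← pow_succ]⟩

end St

/-- notes/CS4.md, section St -/
theorem Cfg.star (h : H4 G) : Star C.S := by
  intro y y1 ⟨r, k, hr, h2, hy⟩
  obtain ⟨x, j, rfl, hx⟩ := exists_pp_map C.π C.π_surj hr hy
  have pp : PP (x : G) := ⟨r, j, hr, h2, by rw [Subgroup.orderOf_coe, hx]⟩
  have xr : (x : G) ∉ rad C.L := fun e => y1 ((C.π_eq_one_iff x).2 e)
  have LC : C.L ≤ centralizer (C.U : Set G) := C.sn.le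
  have Ux : C.U ≤ centralizer ({(x : G)} : Set G) := fun u hu =>
    mem_centralizer_singleton_iff.2 (LC x.2 u hu)
  have k1 : ¬ ∀ W : Subgroup G, IsPGroup 2 W → C.U ≤ W → W ≤ normalizer (C.U : Set G) →
      W ≤ centralizer ({(x : G)} : Set G) → W = C.U := fun hmax => by
    have := (nil2_cent C.two (not_four_of_sylow (h _ pp) C.two Ux hmax)).solvable
    exact C.nsol (Group.isSolvable_of_isSolvable_injective (inclusion_injective LC))
  push Not at k1
  obtain ⟨W, hW, UW, Wn, Wx, ne⟩ := k1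
  obtain ⟨w, hw, hw'⟩ := SetLike.exists_of_lt (lt_of_le_of_ne UW ne.symm)
  obtain ⟨m, hm⟩ := hW ⟨w, hw⟩
  obtain ⟨i, u1, u2⟩ := St.last_pow m w hw' (by
    rw [show w ^ 2 ^ m = 1 from congrArg Subtype.val hm]; exact one_mem _)
  have uW : w ^ i ∈ W := pow_mem hw i
  generalize w ^ i = u at u1 u2 uW
  have ux : u * x * u⁻¹ = x := mul_inv_eq_iff_eq_mul.2 (mem_centralizer_singleton_iff.1 (Wx uW))
  have hV : IsPGroup 2 ↥(C.U ⊔ zpowers u) := hW.to_le (sup_le UW (zpowers_le.2 uW))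
  have sn' : H44.SN (centralizer (C.U : Set G)) (H42.cj u C.L) := by
    have := C.sn.map (MulAut.conj u).toMonoidHom
    rwa [show (centralizer (C.U : Set G)).map (MulAut.conj u).toMonoidHom = centralizer (C.U : Set G) from
      H42.cj_eq_iff_mem_normalizer.2 (H44.normalizer_le_normalizer_centralizer _ (Wn uW))] at this
  have uN : u ∈ normalizer (C.L : Set G) := by
    have e : H42.cj u C.L ⊓ C.L = C.L := by
      by_contra e
      exact xr (C.le_rad (sn'.inf_of_le LC) e ⟨ux ▸ H42.conj_mem_cj x.2, x.2⟩)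
    exact H42.cj_eq_iff_mem_normalizer.1
      (eq_of_le_of_card_ge (inf_eq_right.1 e) (H42.card_cj u C.L).le).symm
  have hne : ¬ C.L ≤ centralizer ({u} : Set G) := fun e => by
    have k2 : C.L ≤ centralizer ((C.U ⊔ zpowers u : Subgroup G) : Set G) := by
      refine le_centralizer_iff.1 (sup_le (le_centralizer_iff.1 LC) (zpowers_le.2 fun c hc => ?_))
      exact mem_centralizer_singleton_iff.1 (e hc)
    have := C.max _ hV (C.sn.mono k2 (centralizer_le (SetLike.coe_subset_coe.2 le_sup_left)))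
    exact u1 ((eq_of_le_of_card_ge le_sup_left this).ge (mem_sup_right (mem_zpowers u)))
  obtain ⟨τ, hτ⟩ := C.exists_aut uN
  obtain ⟨n2, t1⟩ := C.main h uN hV hne hτ
  refine ⟨τ, t1, MulEquiv.ext fun s => ?_, hτ x x ux.symm, n2⟩
  obtain ⟨c, rfl⟩ := C.π_surj s
  have cL : u * c * u⁻¹ ∈ C.L := (mem_normalizer_iff.1 uN c).1 c.2
  rw [MulAut.mul_apply, hτ c ⟨_, cL⟩ rfl, MulAut.one_apply]
  refine hτ _ c ?_
  have := LC c.2 _ u2
  calc (c : G) = u * u * c * (u * u)⁻¹ := by rw [this, mul_inv_cancel_right]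
    _ = u * (u * c * u⁻¹) * u⁻¹ := by group

end Cfsg.Agent.CS4
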