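import Cfsg.Agent.CS4.Defs
import Cfsg.Agent.CS4.CIT
import Cfsg.Prelude.Def_Sz
import Cfsg.Agent.H13.SzInst
import Cfsg.Agent.H13.SzGroup

set_option autoImplicit false

namespace Cfsg.Agent.CS4

open Subgroup

universe u

variable {S : Type*} [Group S] [Finite S]

/-- notes/CS4.md, section Sz -/
theorem sz_not_star (h : Lie.IsoSuzuki S) : ¬ Star S := by
  obtain ⟨F, _, _, m, hm, hF, ⟨e⟩⟩ := h
  let _ := H13.titsOfCard hF
  have M := (H13.lieModel (H13.titsOfCard_θ hF)).ofEquiv e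
  have hq : 8 ≤ Nat.card F := by
    rw [Nat.card_eq_fintype_card, hF]
    calc 8 = 2 ^ 3 := by norm_num
      _ ≤ 2 ^ (2 * m + 1) := Nat.pow_le_pow_right (by norm_num) (by omega)
  refine cit_not_star ?_ M.sylowU M.Z ?_ (by rw [M.card_Z]; exact hq) ?_
  · intro t x ht ht1 htx hx
    have hP : IsPGroup 2 (zpowers t) := by
      refine IsPGroup.of_card (n := 1) ?_
      rw [Nat.card_zpowers, pow_one]
      exact orderOf_eq_prime (by rw [sq, ht]) ht1
    obtain ⟨g, hg⟩ := M.exists_le_conj_U hP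
    have hxU : x ∈ (M.conj g).U :=
      (M.conj g).mem_U_of_commute (hg (mem_zpowers t)) ht1 htx.symm
    obtain ⟨k, hk⟩ := (M.conj g).isPGroup_U ⟨x, hxU⟩
    have hk' : x ^ 2 ^ k = 1 := congrArg Subtype.val hk
    have hd := orderOf_dvd_of_pow_eq_one hk'
    have hc : Nat.Coprime (orderOf x) (2 ^ k) :=
      Nat.Coprime.pow_right _ ((Nat.coprime_two_right).2 hx)
    exact orderOf_eq_one_iff.1 (Nat.Coprime.eq_one_of_dvd hc hd)
  · intro z
    rw [H13.Model.coe_sylowU]
    constructor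
    · intro hz
      refine ⟨M.Z_le_U hz, ?_⟩
      obtain ⟨b, rfl⟩ := M.mem_Z.1 hz
      rw [← sq, M.u_sq, mul_zero, M.u_zero]
    · rintro ⟨hz, h2⟩
      exact M.mem_Z_of_sq hz (by rw [sq, h2])
  · have hH := M.card_H
    have hodd := M.odd_card_H
    have hne : Nat.card M.H ≠ 1 := by omega
    obtain ⟨r, hr, hrd⟩ := Nat.exists_prime_and_dvd hne
    have := Fact.mk hr
    obtain ⟨y, hy⟩ := exists_prime_orderOf_dvd_card' r hrd
    have hy' : orderOf (y : S) = r := by rw [Subgroup.orderOf_coe, hy]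
    refine ⟨y, fun c => ?_, r, 1, hr, fun c => ?_, by rw [pow_one, hy']⟩
    · rw [c, orderOf_one] at hy'
      exact hr.one_lt.ne hy'
    · rw [c] at hrd
      exact (Nat.not_even_iff_odd.2 hodd) (even_iff_two_dvd.2 hrd)

end Cfsg.Agent.CS4
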